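import Cfsg.Agent.Lib.OrthTwoGen.Construct

/-!
The three families.
-/

set_option autoImplicit false
set_option maxHeartbeats 800000

namespace Cfsg.Agent.Lib.OrthTwoGen

open QuadraticMap (polarBilin)
open Cfsg.Agent.Lib.Geometry (quadIsometries mem_quadIsometries quad_add quad_sub quad_smul
  quad_polar_self quad_polar_comm quad_polar_map refl refl_apply refl_apply_self refl_conj refl_mul_self)
open Cfsg.Agent.Lib.Classical (eich eichLin eichLin_apply eich_apply eich_conj eich_congr eich_mul
  eich_inv eichGroup)

open scoped commutatorElement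

attribute [-simp] QuadraticMap.polarBilin_apply_apply

variable {F V : Type*} [Field F] [AddCommGroup V] [Module F V] {Q : QuadraticForm F V}

namespace Cyc

variable {H : Subgroup (quadIsometries Q)} {C : Cyc Q H}

theorem all_of_one (h1 : C.All 1) (hm : C.All (C.n + 1)) :
    ∀ j, j < 2 * C.n → j ≠ C.n → C.All j := by
  have hn := C.hn
  intro j
  induction j with
  | zero => exact fun _ _ => all_zero
  | succ j ih =>
    intro hj hjn
    by_cases h0 : j = 0
    · subst h0; exact h1
    by_cases hjn' : j = C.n
    · subst hjn'; exact hm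
    exact (ih (by omega) hjn').step hm (by omega) h0 (by omega) hj (by omega) hjn (by omega) (by omega)

/-- With all `P j`, a member of the complement spreads. -/
theorem shift_mem (hP : ∀ j, j < 2 * C.n → j ≠ C.n → C.All j) {z : V} (hz : C.Mem z) (hzS : z ∈ C.S)
    {j : ℕ} (hj : j < 2 * C.n) (hj0 : j ≠ 0) (hjn : j ≠ C.n) (c : F) :
    C.Mem (c • (C.g ^ j).1 z) := by
  have hn := C.hn
  let l := if j < C.n then j + C.n else j - C.n
  have h := (hP l (by simp only [l]; split <;> omega) (by simp only [l]; split <;> omega)).push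
    (by simp only [l]; split <;> omega) (by simp only [l]; split <;> omega) hz hzS
    (j := j) (by simp only [l]; split <;> omega) hj c
  have := h.add (hP j hj hjn (c * Q z))
  simpa using this

theorem gpow_parity (hσ : ∀ z ∈ C.S, C.g.1 (C.g.1 z) = z) {z : V} (hz : z ∈ C.S) (j : ℕ) :
    (C.g ^ j).1 z = if j % 2 = 0 then z else C.g.1 z := by
  induction j with
  | zero => rfl
  | succ j ih =>
    rw [pow_succ']
    show C.g.1 ((C.g ^ j).1 z) = _
    rw [ih]
    rcases Nat.mod_two_eq_zero_or_one j with h | h
    · rw [if_pos h, if_neg (by omega)]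
    · rw [if_neg (by omega), hσ z hz, if_pos (by omega)]

theorem pol_g_self (z w : V) : polarBilin Q (C.g.1 z) (C.g.1 w) = polarBilin Q z w :=
  Classical.iso_polarBilin Q C.g z w

end Cyc

theorem pol_add_left (Q : QuadraticForm F V) (x y z : V) :
    polarBilin Q (x + y) z = polarBilin Q x z + polarBilin Q y z := by
  rw [map_add, LinearMap.add_apply]

theorem pol_add_right (Q : QuadraticForm F V) (x y z : V) :
    polarBilin Q x (y + z) = polarBilin Q x y + polarBilin Q x z := map_add _ _ _

theorem refl_refl (v y : V) : (refl Q v).1 ((refl Q v).1 y) = y :=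
  congrArg (fun g : quadIsometries Q => g.1 y) (refl_mul_self Q v)

variable [Fintype F]

/-- Two generators inside `commutator (O(Q))`, generating it. -/
def TwoGen (Q : QuadraticForm F V) : Prop :=
  ∃ A B : quadIsometries Q, Subgroup.closure {A, B} = commutator (quadIsometries Q)

theorem TwoGen.of_le {A B : quadIsometries Q} (hA : A ∈ commutator (quadIsometries Q))
    (hB : B ∈ commutator (quadIsometries Q))
    (hE : commutator (quadIsometries Q) ≤ eichGroup Q ⊤)
    (h : eichGroup Q ⊤ ≤ Subgroup.closure {A, B}) : TwoGen Q :=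
  ⟨A, B, le_antisymm ((Subgroup.closure_le _).mpr (by rintro _ (rfl | rfl) <;> assumption))
    (hE.trans h)⟩

section

variable (hQ : (polarBilin Q).Nondegenerate)
  (hlong : ∀ (u x : V) (hu : Q u = 0) (hx : polarBilin Q u x = 0), Q x = 0 →
    eich Q u x hu hx ∈ commutator (quadIsometries Q))
  (hE : commutator (quadIsometries Q) ≤ eichGroup Q ⊤)
  {n : ℕ} {e f : ℕ → V}
include hQ hlong hE

/-- One anisotropic line beside the pairs. -/
theorem twoGen_odd (h2 : (2 : F) ≠ 0) (hn : 2 ≤ n) (hfr : Frame Q n e f) {z : V}
    (hz : z ∈ perpFrame Q n e f) (hqz : Q z = 1)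
    (hline : ∀ y ∈ perpFrame Q n e f, ∃ t : F, y = t • z) : TwoGen Q := by
  have hsh : eich Q (e 0) z (hfr.qe 0 (by omega)) (hz 0 (by omega)).1 ∈
      commutator (quadIsometries Q) := by
    have hfix : (refl Q z).1 (e 0) = e 0 := refl_fix (by rw [quad_polar_comm]; exact (hz 0 (by omega)).1)
    have hneg : (refl Q z).1 z = -z := refl_apply_self Q (by rw [hqz]; exact one_ne_zero)
    have hx : polarBilin Q (e 0) ((-(1 / 2 : F)) • z) = 0 := by
      rw [pol_smul_right, (hz 0 (by omega)).1, mul_zero]
    have hE' := eich_conj Q (refl Q z) (hfr.qe 0 (by omega)) hx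
    have hx' : polarBilin Q (e 0) ((1 / 2 : F) • z) = 0 := by
      rw [pol_smul_right, (hz 0 (by omega)).1, mul_zero]
    have hu' : Q ((refl Q z).1 (e 0)) = 0 := by rw [hfix]; exact hfr.qe 0 (by omega)
    haveI : NeZero (2 : F) := ⟨h2⟩
    have : eich Q (e 0) z (hfr.qe 0 (by omega)) (hz 0 (by omega)).1 =
        ⁅refl Q z, eich Q (e 0) ((-(1 / 2 : F)) • z) (hfr.qe 0 (by omega)) hx⁆ := by
      rw [commutatorElement_def, hE', eich_inv]
      have hc := eich_congr Q (x := (refl Q z).1 ((-(1 / 2 : F)) • z)) hu'
        (by rw [hfix, map_smul, hneg, smul_neg, neg_smul, neg_neg]; exact hx')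
        (hfr.qe 0 (by omega)) hx'
        (fun y => by rw [hfix, map_smul, hneg, smul_neg, neg_smul, neg_neg])
      rw [hc, eich_mul]
      refine eich_congr Q _ _ _ _ fun y => ?_
      rw [neg_smul, neg_neg, ← add_smul, add_halves, one_smul]
    rw [this, commutator_def]
    exact Subgroup.commutator_mem_commutator trivial trivial
  obtain ⟨A, B, hA, hB, C, hCn, -, hS, -, -, hg, ha⟩ := exists_setup hn hfr hlong hQ
    (c := -1) (neg_ne_zero.mpr one_ne_zero) hz (by rw [hqz, neg_neg]) (c0 := 1) one_pos (by omega)
    (hz 1 (by omega)).1 (hz 1 (by omega)).2 (hz 0 (by omega)).1 hsh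
  have hzS : z ∈ C.S := by rw [hS]; exact hz
  have hgg : ∀ y ∈ C.S, C.g.1 (C.g.1 y) = y := fun y hy => by
    have hy' : C.g.1 y ∈ perpFrame Q n e f := hS ▸ C.gS y hy
    rw [hg _ hy', hg y (hS ▸ hy), refl_refl]
  have hgz : C.g.1 z = -z := by rw [hg z hz, refl_apply_self Q (by rw [hqz]; exact one_ne_zero)]
  have hall : ∀ j, j < 2 * C.n → j ≠ C.n → C.All j := fun j hj hjn => by
    rcases Nat.eq_zero_or_pos j with rfl | h0
    · exact Cyc.all_zero
    refine Cyc.all_of_pair ha hzS ha hzS hj (by omega) hjn ?_
    rw [Cyc.gpow_parity hgg hzS]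
    split <;> simp [hgz, quad_polar_self, hqz, h2]
  refine TwoGen.of_le hA hB hE (Cyc.eichGroup_le hQ hall fun y hy => ?_)
  obtain ⟨t, rfl⟩ := hline y (hS ▸ hy)
  have := Cyc.shift_mem hall ha hzS (j := 1) (by omega) (by omega) (by omega) (-t)
  rwa [Cyc.gpow_parity hgg hzS, if_neg (by omega), hgz, smul_neg, neg_smul, neg_neg] at this

/-- A hyperbolic plane beside at least three pairs. -/
theorem twoGen_plus (hn : 3 ≤ n) (hfr : Frame Q (n + 1) e f)
    (hplane : ∀ y ∈ perpFrame Q n e f, ∃ s t : F, y = s • e n + t • f n) : TwoGen Q := by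
  have hfr' : Frame Q n e f := hfr.mono (by omega)
  have hR : e n ∈ perpFrame Q n e f ∧ f n ∈ perpFrame Q n e f := by
    constructor <;> intro i hi <;>
      simp [hfr.ee i (by omega) n (by omega), hfr.ff i (by omega) n (by omega),
        hfr.ef i (by omega) n (by omega), hfr.fe i (by omega) n (by omega), show i ≠ n by omega]
  set v := e n - f n with hv
  have hvS : v ∈ perpFrame Q n e f := Submodule.sub_mem _ hR.1 hR.2
  have hqv : Q v = -1 := by
    rw [hv, quad_sub, hfr.qe n (by omega), hfr.qf n (by omega), hfr.ef n (by omega) n (by omega),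
      if_pos rfl]
    ring
  have hgR : (refl Q v).1 (e n) = f n ∧ (refl Q v).1 (f n) = e n := by
    constructor <;> rw [refl_apply, hqv] <;>
      simp [hv, hfr.ee n (by omega) n (by omega), hfr.ff n (by omega) n (by omega),
        hfr.ef n (by omega) n (by omega), hfr.fe n (by omega) n (by omega)]
  have hRR : polarBilin Q (e n) (f n) = 1 := by rw [hfr.ef n (by omega) n (by omega), if_pos rfl]
  have hRR' : polarBilin Q (f n) (e n) = 1 := by rw [quad_polar_comm, hRR]
  have hee : polarBilin Q (e n) (e n) = 0 := hfr.ee n (by omega) n (by omega)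
  -- the second generator
  let c0 : ℕ := if n = 3 then 2 else 1
  let a : V := if n = 3 then e 1 + f 1 + e n else e 2 + e n
  have hpa : ∀ i, i < n → i ≠ 1 ∨ n ≠ 3 → i ≠ 2 ∨ n = 3 →
      polarBilin Q (e i) a = 0 ∧ polarBilin Q (f i) a = 0 := by
    intro i hi hi1 hi2
    simp only [a]
    split
    · rw [pol_add_right, pol_add_right, pol_add_right, pol_add_right, hfr.ee i (by omega) 1 (by omega),
        hfr.ef i (by omega) 1 (by omega), hfr.fe i (by omega) 1 (by omega),
        hfr.ff i (by omega) 1 (by omega), (hR.1 i hi).1, (hR.1 i hi).2, if_neg (by omega)]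
      simp
    · rw [pol_add_right, pol_add_right, hfr.ee i (by omega) 2 (by omega), hfr.fe i (by omega) 2 (by omega),
        (hR.1 i hi).1, (hR.1 i hi).2, if_neg (by omega)]
      simp
  have ha0 := (hpa 0 (by omega) (by omega) (by omega)).1
  have hc0n : c0 < n := by simp only [c0]; split <;> omega
  have hac := hpa c0 hc0n (by simp only [c0]; split <;> omega) (by simp only [c0]; split <;> omega)
  have hsh : eich Q (e 0) a (hfr'.qe 0 (by omega)) ha0 ∈ commutator (quadIsometries Q) := by
    by_cases h3 : n = 3
    · have e1 : polarBilin Q (e 0) (e 1) = 0 := hfr.ee 0 (by omega) 1 (by omega)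
      have e2 : polarBilin Q (e 0) (f 1) = 0 := by rw [hfr.ef 0 (by omega) 1 (by omega), if_neg (by omega)]
      have e3 : polarBilin Q (e 0) (e n) = 0 := (hR.1 0 (by omega)).1
      have h12 : polarBilin Q (e 0) (e 1 + f 1) = 0 := by rw [pol_add_right, e1, e2, add_zero]
      have := mul_mem (mul_mem (hlong _ _ (hfr.qe 0 (by omega)) e1 (hfr.qe 1 (by omega)))
        (hlong _ _ (hfr.qe 0 (by omega)) e2 (hfr.qf 1 (by omega))))
        (hlong _ _ (hfr.qe 0 (by omega)) e3 (hfr.qe n (by omega)))
      rw [eich_mul, eich_mul] at this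
      exact mem_of_eich_eq this rfl (by simp only [a, if_pos h3])
    · refine hlong _ _ _ _ ?_
      simp only [a, if_neg h3]
      rw [quad_add, hfr.qe 2 (by omega), hfr.qe n (by omega), hfr.ee 2 (by omega) n (by omega)]
      ring
  obtain ⟨A, B, hA, hB, C, hCn, hCκ, hS, hlo, hhi, hg, hMa⟩ := exists_setup (by omega) hfr' hlong hQ
    (c := (1 : F)) one_ne_zero hvS hqv (c0 := c0) (by simp only [c0]; split <;> omega) hc0n
    hac.1 hac.2 ha0 hsh
  subst hCn
  have heS : e C.n ∈ C.S := by rw [hS]; exact hR.1
  have hfS : f C.n ∈ C.S := by rw [hS]; exact hR.2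
  have hgg : ∀ y ∈ C.S, C.g.1 (C.g.1 y) = y := fun y hy => by
    have hy' : C.g.1 y ∈ perpFrame Q C.n e f := hS ▸ C.gS y hy
    rw [hg _ hy', hg y (hS ▸ hy), refl_refl]
  have hge : C.g.1 (e C.n) = f C.n := by rw [hg _ hR.1, hgR.1]
  have hgpow : ∀ j, (C.g ^ j).1 (e C.n) = if j % 2 = 0 then e C.n else f C.n := fun j => by
    rw [Cyc.gpow_parity hgg heS, hge]
  have hPe : ∀ i j, polarBilin Q (C.P i) ((C.g ^ j).1 (e C.n)) = 0 := fun i j =>
    C.sP _ (Cyc.gpowS j heS) i
  have hPe0 : ∀ i, polarBilin Q (C.P i) (e C.n) = 0 := fun i => C.sP _ heS i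
  have hPf0 : ∀ i, polarBilin Q (C.P i) (f C.n) = 0 := fun i => C.sP _ hfS i
  have hQe : Q (e C.n) = 0 := hfr.qe C.n (by omega)
  -- `P 1` and all multiples of `e n`
  obtain ⟨h1, hmemE⟩ : C.All 1 ∧ (∀ c : F, C.Mem (c • e C.n)) ∧ C.All 2 := by
    by_cases h3 : C.n = 3
    · have hκ1 : C.κ = 1 := by rw [hCκ, h3]; norm_num
      have hk1 : ((-1 : F) ^ (C.n - 1) * 1) = 1 := by rw [h3]; norm_num
      have haeq : a = C.P 1 + C.P 4 + e C.n := by
        simp only [a, if_pos h3]
        rw [hlo 1 (by omega), show (4 : ℕ) = C.n + 1 by omega, hhi 1 (by omega), hk1, one_smul]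
      rw [haeq] at hMa
      have pol : ∀ i j, i < 6 → j < 6 → polarBilin Q (C.P i) (C.P j) =
          if i + 3 = j ∨ j + 3 = i then 1 else 0 := fun i j hi hj => by
        rw [C.pol i j (by omega) (by omega), h3, hκ1]
      have hy : ∀ j, (C.g ^ j).1 (C.P 1 + C.P 4 + e C.n) =
          C.P (1 + j) + C.P (4 + j) + (if j % 2 = 0 then e C.n else f C.n) := fun j => by
        rw [map_add, map_add, Cyc.gpowP, Cyc.gpowP, hgpow]
      have hQa : Q (C.P 1 + C.P 4 + e C.n) = 1 := by
        rw [quad_add, quad_add, C.qP, C.qP, hQe, pol 1 4 (by omega) (by omega), if_pos (by omega),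
          pol_add_left, hPe0, hPe0]
        ring
      have p6 : ∀ i, i < 3 → C.P (i + 6) = C.P i := fun i _ => by
        rw [show i + 6 = i + 2 * C.n by omega, C.per]
      have pj1 : ∀ x : V, (C.g ^ 1).1 x = C.g.1 x := fun x => by rw [pow_one]
      -- the translates by `1` and `4`
      have u1 := hMa.act hMa (j := 1) (by omega) (by omega) (by
        rw [hy, pol_add_right, pol_add_right, pol 0 2 (by omega) (by omega), pol 0 5 (by omega) (by omega)]
        simp [hPf0])
      rw [hy, hQa] at u1
      simp [pol, hPe0, hPf0, quad_polar_comm Q (e C.n) (C.P _), hRR] at u1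
      have u2 := hMa.act hMa (j := 4) (by omega) (by omega) (by
        rw [hy, show 4 + 4 = 2 + 6 by rfl, p6 2 (by omega), pol_add_right, pol_add_right,
          pol 0 5 (by omega) (by omega), pol 0 2 (by omega) (by omega)]
        simp [hPe0])
      rw [hy, hQa, show 4 + 4 = 2 + 6 by rfl, p6 2 (by omega)] at u2
      simp [pol, hPe0, hPf0, quad_polar_comm Q (e C.n) (C.P _), hee] at u2
      -- clear
      have v1 : C.Mem (C.P 2 + C.P 5 + f C.n - (2 : F) • C.P 1) := by
        convert u1.sub hMa using 1
        module
      have v2 : C.Mem (C.P 2 + C.P 5 + e C.n - C.P 4) := by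
        convert u2.sub hMa using 1
        module
      have h1 : C.All 1 := by
        by_cases h2 : (2 : F) = 0
        · -- through `P 4`
          have w := v1.act hMa (j := 4) (by omega) (by omega) (by
            rw [hy, show 4 + 4 = 2 + 6 by rfl, p6 2 (by omega), pol_add_right, pol_add_right,
              pol 0 5 (by omega) (by omega), pol 0 2 (by omega) (by omega)]
            simp [hPe0])
          rw [hy, hQa, show 4 + 4 = 2 + 6 by rfl, p6 2 (by omega)] at w
          simp [pol, hPe0, hPf0, quad_polar_comm Q (f C.n) (C.P _), hRR', h2] at w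
          have h4 : C.All 4 := by
            refine Cyc.all_of_mem (c := (-1 : F)) (by omega) (by omega) (by omega)
              (neg_ne_zero.mpr one_ne_zero) ?_
            convert w.sub v1 using 1
            match_scalars <;> first | ring1 | linear_combination h2 | linear_combination -h2
          have h2' : C.All 2 := h4.symm (by omega) (by omega)
          exact h2'.step h2' (by omega) (by omega) (by omega) (by omega) (by omega) (by omega)
            (by omega) (by omega)
        · have w := v2.act hMa (j := 1) (by omega) (by omega) (by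
            rw [hy, pol_add_right, pol_add_right, pol 0 2 (by omega) (by omega), pol 0 5 (by omega) (by omega)]
            simp [hPf0])
          rw [hy, hQa] at w
          simp [pol, hPe0, hPf0, quad_polar_comm Q (e C.n) (C.P _), hRR] at w
          refine Cyc.all_of_mem (c := (4 : F) * -1) (by omega) (by omega) (by omega) ?_ ?_
          · refine mul_ne_zero ?_ (neg_ne_zero.mpr one_ne_zero)
            have h22 := mul_ne_zero h2 h2
            norm_num at h22
            exact h22
          · convert (w.sub v2).add v1 using 1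
            module
      have h5 : C.All 5 := h1.symm (by omega) (by omega)
      have hs : C.Mem (C.P 4 + e C.n) := by
        convert hMa.sub (h1 1) using 1
        module
      have h2 : C.All 2 := by
        have hy1 : (C.g ^ 1).1 ((1 : F) • C.P 1) = C.P 2 := by rw [one_smul, Cyc.gpowP]
        have := hs.act (h1 1) (j := 1) (by omega) (by omega) (by
          rw [hy1, pol 0 2 (by omega) (by omega), if_neg (by omega)])
        rw [hy1, quad_smul, C.qP] at this
        simp [pol, hPe0, quad_polar_comm Q (e C.n) (C.P _)] at this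
        refine Cyc.all_of_mem (c := (1 : F)) (by omega) (by omega) (by omega) one_ne_zero ?_
        convert this.sub hs using 1
        module
      have h4 : C.All 4 := h2.symm (by omega) (by omega)
      refine ⟨h1, fun c => ?_, h2⟩
      have := (h1 c).act hMa (j := 4) (by omega) (by omega) (by
        rw [hy, show 4 + 4 = 2 + 6 by rfl, p6 2 (by omega), pol_add_right, pol_add_right,
          pol 0 5 (by omega) (by omega), pol 0 2 (by omega) (by omega)]
        simp [hPe0])
      rw [hy, hQa, show 4 + 4 = 2 + 6 by rfl, p6 2 (by omega)] at this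
      simp [pol, hPe0, hPf0, pol_smul_left] at this
      convert ((this.sub (h1 c)).sub ((h2 c).add (h5 c))).add (h4 c) using 1
      module
    · have haeq : a = C.P 2 + e C.n := by
        simp only [a, if_neg h3]
        rw [hlo 2 (by omega)]
      rw [haeq] at hMa
      have hn4 : 4 ≤ C.n := by omega
      have hy : ∀ j, (C.g ^ j).1 (C.P 2 + e C.n) =
          C.P (2 + j) + (if j % 2 = 0 then e C.n else f C.n) := fun j => by
        rw [map_add, Cyc.gpowP, hgpow]
      have hQa : Q (C.P 2 + e C.n) = 0 := by rw [quad_add, C.qP, hQe, hPe0]; ring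
      have pol := C.pol
      have u := hMa.act hMa (j := 1) (by omega) (by omega) (by
        rw [hy, if_neg (by omega), pol_add_right, hPf0, pol 0 3 (by omega) (by omega), if_neg (by omega),
          add_zero])
      rw [hy, if_neg (by omega), hQa] at u
      simp only [map_add, LinearMap.add_apply, pol 2 1 (by omega) (by omega),
        pol 2 (2 + 1) (by omega) (by omega), hPf0, hRR, quad_polar_comm Q (e C.n) (C.P _), hPe0] at u
      rw [if_neg (by omega), if_neg (by omega)] at u
      have h1 : C.All 1 := by
        refine Cyc.all_of_mem (c := (-1 : F)) (by omega) (by omega) (by omega)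
          (neg_ne_zero.mpr one_ne_zero) ?_
        convert u.sub hMa using 1
        module
      have hm1 : C.All (2 * C.n - 1) := h1.symm (by omega) (by omega)
      have hn2 : C.All (C.n - 2) := hm1.step hm1 (by omega) (by omega) (by omega) (by omega)
        (by omega) (by omega) (by omega) (by omega)
      have hmE : ∀ c : F, C.Mem (c • e C.n) := fun c => by
        have hyy : (C.g ^ (2 * C.n - 2)).1 (C.P 2 + e C.n) = C.P 0 + e C.n := by
          rw [hy, if_pos (by omega), show 2 + (2 * C.n - 2) = 0 + 2 * C.n by omega, C.per]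
        have := (hn2 (c / C.κ)).act hMa (j := 2 * C.n - 2) (by omega) (by omega) (by
          rw [hyy, pol_add_right, hPe0, pol 0 0 (by omega) (by omega), if_neg (by omega), add_zero])
        rw [hyy, hQa, pol_smul_left, pol_smul_left, pol_add_right, hPe0,
          pol (C.n - 2) (2 * C.n - 2) (by omega) (by omega),
          pol (C.n - 2) 0 (by omega) (by omega), if_pos (by omega), if_neg (by omega),
          div_mul_cancel₀ _ C.hκ] at this
        convert (this.sub (hn2 (c / C.κ))).sub (Cyc.mem_smul_zero c) using 1
        module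
      refine ⟨h1, hmE, Cyc.all_of_mem (c := (1 : F)) (by omega) (by omega) (by omega) one_ne_zero ?_⟩
      convert hMa.sub (hmE 1) using 1
      module
  obtain ⟨hmemE, h2'⟩ := hmemE
  have hmE1 : C.Mem (e C.n) := by simpa using hmemE 1
  have hmF : ∀ c : F, C.Mem (c • f C.n) := fun c => by
    rcases Nat.mod_two_eq_zero_or_one C.n with hp | hp
    · have := h1.push (by omega) (by omega) hmE1 heS (j := 1 + C.n) (by omega) (by omega) c
      rwa [hgpow, if_neg (by omega), hQe, mul_zero, zero_smul, sub_zero] at this
    · have := h2'.push (by omega) (by omega) hmE1 heS (j := 2 + C.n) (by omega) (by omega) c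
      rwa [hgpow, if_neg (by omega), hQe, mul_zero, zero_smul, sub_zero] at this
  have hm : C.All (C.n + 1) := by
    rcases Nat.mod_two_eq_zero_or_one C.n with hp | hp
    · refine Cyc.all_of_pair hmE1 heS hmE1 heS (by omega) (by omega) (by omega) ?_
      rw [hgpow, if_neg (by omega), hRR]
      exact one_ne_zero
    · refine Cyc.all_of_pair (by simpa using hmF 1) hfS hmE1 heS (by omega) (by omega) (by omega) ?_
      rw [hgpow, if_pos (by omega), hRR']
      exact one_ne_zero
  refine TwoGen.of_le hA hB hE (Cyc.eichGroup_le hQ (Cyc.all_of_one h1 hm) fun y hy => ?_)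
  obtain ⟨s, t, rfl⟩ := hplane y (hS ▸ hy)
  exact (hmemE s).add (hmF t)

omit hQ hlong hE in
theorem isElliptic_reflection {z w : V} (hqz : Q z = 1) {a b : F} (hB : polarBilin Q z w = a)
    (hw : Q w = b) (t : F) (hne : Q (t • z + w) ≠ 0) :
    polarBilin Q z ((refl Q (t • z + w)).1 z) =
      2 - (Q (t • z + w))⁻¹ * ((2 * t + a) * (2 * t + a)) ∧
    Q (t • z + w) = t * t + a * t + b := by
  refine ⟨?_, ?_⟩
  · rw [refl_apply, map_sub, pol_smul_right, pol_add_right, quad_polar_self, hqz, pol_smul_right,
      quad_polar_self, hqz, hB, pol_add_left, pol_smul_left, quad_polar_self, hqz,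
      quad_polar_comm Q w z, hB]
    ring
  · rw [quad_add, quad_smul, hqz, hw, pol_smul_left, hB]
    ring

/-- An anisotropic plane beside at least three pairs. -/
theorem twoGen_minus (hn : 3 ≤ n) (hfr : Frame Q n e f) {a b : F}
    (hab : ∀ z₁ z₂ : F, z₁ ^ 2 + a * z₁ * z₂ + b * z₂ ^ 2 = 0 → z₁ = 0 ∧ z₂ = 0) {z w : V}
    (hz : z ∈ perpFrame Q n e f) (hw : w ∈ perpFrame Q n e f) (hqz : Q z = 1) (hqw : Q w = b)
    (hzw : polarBilin Q z w = a)
    (hplane : ∀ y ∈ perpFrame Q n e f, ∃ s t : F, y = s • z + t • w)
    (hshort : ∀ (u x : V) (hu : Q u = 0) (hx : polarBilin Q u x = 0),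
      eich Q u x hu hx ∈ commutator (quadIsometries Q)) : TwoGen Q := by
  classical
  have hne : ∀ t : F, t * t + a * t + b ≠ 0 := fun t h =>
    one_ne_zero (hab t 1 (by linear_combination h)).2
  -- the reflection
  obtain ⟨t, hB0, hgood⟩ : ∃ t : F, 2 * t + a ≠ 0 ∧
      (2 * (t * t + a * t + b) - (2 * t + a) * (2 * t + a) ≠ 0 ∨
        ((3 : F) = 0 ∧ t * t + a * t + b = -1)) := by
    by_cases h2 : (2 : F) = 0
    · have ha : a ≠ 0 := by
        intro ha
        haveI : CharP F 2 := CharTwo.of_one_ne_zero_of_two_eq_zero one_ne_zero h2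
        obtain ⟨s, hs⟩ := FiniteField.isSquare_of_char_two (ringChar.eq F 2) (-b)
        exact hne s (by rw [ha]; linear_combination -hs)
      refine ⟨0, by rwa [mul_zero, zero_add], Or.inl fun h => ?_⟩
      exact mul_ne_zero ha ha (by linear_combination -h + b * h2)
    · by_contra hcon
      push Not at hcon
      -- every admissible `t` is a root of one quadratic
      have key : ∀ u : F, u ≠ 0 → u * u = 4 * b - a * a := fun u hu => by
        have h := (hcon ((u - a) / 2) (by rw [mul_div_cancel₀ _ h2, sub_add_cancel]; exact hu)).1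
        field_simp at h
        have h4 : (2 : F) * 2 ≠ 0 := mul_ne_zero h2 h2
        linear_combination -h
      have e1 := key 1 one_ne_zero
      have e2 := key 2 h2
      have h3 : (3 : F) = 0 := by linear_combination e2 - e1
      have h4 : (-(a + 1) : F) * 2 + a ≠ 0 ∨ True := Or.inr trivial
      have hba : b - a * a = 1 := by linear_combination -e1 + (-b) * h3
      have ht := hcon (a + 1) (by
        intro h
        exact h2 (by linear_combination h - a * h3))
      exact ht.2 h3 (by linear_combination hba + (a * a + a + 1) * h3)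
  set v := t • z + w with hv
  have hvS : v ∈ perpFrame Q n e f := Submodule.add_mem _ (Submodule.smul_mem _ _ hz) hw
  have hQv : Q v = t * t + a * t + b := by
    rw [hv, quad_add, quad_smul, hqz, hqw, pol_smul_left, hzw]; ring
  have hqv0 : Q v ≠ 0 := by rw [hQv]; exact hne t
  obtain ⟨hβ, -⟩ := isElliptic_reflection hqz hzw hqw t hqv0
  rw [← hv] at hβ
  set r := (2 * t + a) / Q v with hr
  have hr0 : r ≠ 0 := div_ne_zero hB0 hqv0
  have hσz : (refl Q v).1 z = (1 - r * t) • z - r • w := by
    rw [refl_apply, hv, pol_add_left, pol_smul_left, quad_polar_self, hqz,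
      quad_polar_comm Q w z, hzw, ← hv]
    rw [show (Q v)⁻¹ * (t * (2 * 1) + a) = r by rw [hr]; ring, hv]
    module
  set β := polarBilin Q z ((refl Q v).1 z) with hβdef
  let big : Prop := β ≠ 0
  -- the second generator
  let c0 : ℕ := if β = 0 then 2 else 1
  let x : V := if β = 0 then e 1 + z else z
  have hpx : ∀ i, i < n → i ≠ 1 ∨ β ≠ 0 → polarBilin Q (e i) x = 0 ∧ polarBilin Q (f i) x = 0 := by
    intro i hi hi1
    simp only [x]
    split
    · next h =>
      have : i ≠ 1 := hi1.resolve_right (fun h' => h' h)
      rw [pol_add_right, pol_add_right, hfr.ee i hi 1 (by omega), hfr.fe i hi 1 (by omega), (hz i hi).1,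
        (hz i hi).2, if_neg this]
      simp
    · exact ⟨(hz i hi).1, (hz i hi).2⟩
  have hx0 := (hpx 0 (by omega) (Or.inl (by omega))).1
  have hc0n : c0 < n := by simp only [c0]; split <;> omega
  have hxc := hpx c0 hc0n (by simp only [c0]; split <;> [exact Or.inl (by omega); exact Or.inr ‹_›])
  obtain ⟨A, B, hA, hB, C, hCn, hCκ, hS, hlo, hhi, hg, hMx⟩ := exists_setup (by omega) hfr hlong hQ
    (c := -Q v) (neg_ne_zero.mpr hqv0) hvS (neg_neg _).symm (c0 := c0)
    (by simp only [c0]; split <;> omega) hc0n hxc.1 hxc.2 hx0 (hshort _ _ _ _)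
  subst hCn
  have hzS : z ∈ C.S := by rw [hS]; exact hz
  have hgg : ∀ y ∈ C.S, C.g.1 (C.g.1 y) = y := fun y hy => by
    have hy' : C.g.1 y ∈ perpFrame Q C.n e f := hS ▸ C.gS y hy
    rw [hg _ hy', hg y (hS ▸ hy), refl_refl]
  have hgpow : ∀ j, (C.g ^ j).1 z = if j % 2 = 0 then z else C.g.1 z := fun j =>
    Cyc.gpow_parity hgg hzS j
  have hgz : C.g.1 z = (refl Q v).1 z := hg z hz
  have hzz : polarBilin Q z z = 2 := by rw [quad_polar_self, hqz, mul_one]
  have hzgz : polarBilin Q z (C.g.1 z) = β := by rw [hgz]
  have hPz : ∀ i j, polarBilin Q (C.P i) ((C.g ^ j).1 z) = 0 := fun i j =>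
    C.sP _ (Cyc.gpowS j hzS) i
  have pol := C.pol
  -- `z` itself and the two starting vectors
  obtain ⟨hmz, h1, hm⟩ : C.Mem z ∧ C.All 1 ∧ C.All (C.n + 1) := by
    by_cases hb0 : β = 0
    swap
    · have hmz : C.Mem z := by simpa only [x, if_neg hb0] using hMx
      have h1 : C.All 1 := by
        refine Cyc.all_of_pair hmz hzS hmz hzS (by omega) (by omega) (by omega) ?_
        rw [hgpow, if_neg (by omega), hzgz]
        exact hb0
      refine ⟨hmz, h1, ?_⟩
      rcases Nat.mod_two_eq_zero_or_one C.n with hp | hp
      · refine Cyc.all_of_pair hmz hzS hmz hzS (by omega) (by omega) (by omega) ?_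
        rw [hgpow, if_neg (by omega), hzgz]
        exact hb0
      · have := h1.push (by omega) (by omega) hmz hzS (j := C.n + 1) (by omega) (by omega) 1
        rw [hgpow, if_pos (by omega), hqz, one_smul, mul_one] at this
        refine Cyc.all_of_mem (c := (-1 : F)) (by omega) (by omega) (by omega)
          (neg_ne_zero.mpr one_ne_zero) ?_
        convert this.sub hmz using 1
        module
    · -- here `q = 3`
      obtain ⟨h3, hQv1⟩ : (3 : F) = 0 ∧ Q v = -1 := by
        rcases hgood with hg' | ⟨h3, h⟩
        · exfalso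
          refine hg' ?_
          have : β * Q v = 0 := by rw [hb0, zero_mul]
          rw [hβ, sub_mul, mul_comm (Q v)⁻¹, mul_assoc, inv_mul_cancel₀ hqv0, mul_one] at this
          rw [← hQv]
          exact this
        · exact ⟨h3, by rw [hQv, h]⟩
      have h2 : (2 : F) ≠ 0 := fun h => one_ne_zero (by linear_combination h3 - h : (1 : F) = 0)
      have hxeq : x = C.P 1 + z := by simp only [x, if_pos hb0]; rw [hlo 1 (by omega)]
      rw [hxeq] at hMx
      have hyz : ∀ j, (C.g ^ j).1 (C.P 1 + z) =
          C.P (1 + j) + (if j % 2 = 0 then z else C.g.1 z) := fun j => by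
        rw [map_add, Cyc.gpowP, hgpow]
      have hQx : Q (C.P 1 + z) = 1 := by rw [quad_add, C.qP, hqz, C.sP z hzS]; ring
      have hPgz : ∀ i, polarBilin Q (C.P i) (C.g.1 z) = 0 := fun i => C.sP _ (C.gS z hzS) i
      have hPz0 : ∀ i, polarBilin Q (C.P i) z = 0 := fun i => C.sP z hzS i
      have h1 : C.All 1 := by
        rcases Nat.lt_or_ge C.n 4 with hn' | hn4
        · have hn3 : C.n = 3 := by omega
          have hκ1 : C.κ = 1 := by rw [hCκ, hQv1, hn3]; norm_num
          have u := hMx.act hMx (j := 4) (by omega) (by omega) (by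
            rw [hyz, if_pos (by omega), pol_add_right, hPz0, pol 0 5 (by omega) (by omega),
              if_neg (by omega), add_zero])
          rw [hyz, if_pos (by omega), hQx] at u
          simp only [map_add, LinearMap.add_apply, pol 1 4 (by omega) (by omega),
            pol 1 (1 + 4) (by omega) (by omega), hPz0, quad_polar_comm Q z (C.P _), hzz] at u
          rw [if_pos (by omega), if_neg (by omega), hκ1] at u
          have u5 : C.Mem (C.P 5 + z) := by
            convert u.sub hMx using 1
            match_scalars <;> first | ring1 | linear_combination h3 | linear_combination -h3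
          have w' := u5.act hMx (j := 1) (by omega) (by omega) (by
            rw [hyz, if_neg (by omega), pol_add_right, hPgz, pol 0 2 (by omega) (by omega),
              if_neg (by omega), add_zero])
          rw [hyz, if_neg (by omega), hQx] at w'
          simp only [map_add, LinearMap.add_apply, pol 5 1 (by omega) (by omega),
            pol 5 (1 + 1) (by omega) (by omega), hPgz, hPz0, quad_polar_comm Q z (C.P _), hzgz, hb0]
            at w'
          rw [if_neg (by omega), if_pos (by omega), hκ1] at w'
          refine Cyc.all_of_mem (c := (-1 : F)) (by omega) (by omega) (by omega)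
            (neg_ne_zero.mpr one_ne_zero) ?_
          convert w'.sub u5 using 1
          module
        · have u := hMx.act hMx (j := 2) (by omega) (by omega) (by
            rw [hyz, if_pos (by omega), pol_add_right, hPz0, pol 0 3 (by omega) (by omega),
              if_neg (by omega), add_zero])
          rw [hyz, if_pos (by omega), hQx] at u
          simp only [map_add, LinearMap.add_apply, pol 1 2 (by omega) (by omega),
            pol 1 (1 + 2) (by omega) (by omega), hPz0, quad_polar_comm Q z (C.P _), hzz] at u
          rw [if_neg (by omega), if_neg (by omega)] at u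
          have hA2 : C.All 2 := by
            refine Cyc.all_of_mem (c := (-2 : F)) (by omega) (by omega) (by omega)
              (neg_ne_zero.mpr h2) ?_
            convert u.sub hMx using 1
            module
          have hy2 : (C.g ^ (C.n - 1)).1 ((1 : F) • C.P 2) = C.P (C.n + 1) := by
            rw [one_smul, Cyc.gpowP, show 2 + (C.n - 1) = C.n + 1 by omega]
          have w' := hMx.act (hA2 1) (j := C.n - 1) (by omega) (by omega) (by
            rw [hy2, pol 0 (C.n + 1) (by omega) (by omega), if_neg (by omega)])
          rw [hy2, quad_smul, C.qP] at w'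
          simp only [map_add, LinearMap.add_apply, pol 1 (C.n - 1) (by omega) (by omega),
            pol 1 (C.n + 1) (by omega) (by omega), quad_polar_comm Q z (C.P _), hPz0] at w'
          rw [if_neg (by omega), if_pos (by omega)] at w'
          have hAn : C.All (C.n - 1) := by
            refine Cyc.all_of_mem (c := -C.κ) (by omega) (by omega) (by omega)
              (neg_ne_zero.mpr C.hκ) ?_
            convert w'.sub hMx using 1
            module
          exact hA2.step hAn (by omega) (by omega) (by omega) (by omega) (by omega) (by omega)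
            (by omega) (by omega)
      have hmz : C.Mem z := by
        convert hMx.sub (h1 1) using 1
        module
      refine ⟨hmz, h1, ?_⟩
      rcases Nat.mod_two_eq_zero_or_one C.n with hp | hp
      · have hm1 : C.All (2 * C.n - 1) := h1.symm (by omega) (by omega)
        have hA2 : C.All 2 := by
          refine Cyc.all_of_pair hmz hzS hmz hzS (by omega) (by omega) (by omega) ?_
          rw [hgpow, if_pos (by omega), hzz]
          exact h2
        exact hA2.step hm1 (by omega) (by omega) (by omega) (by omega) (by omega) (by omega)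
          (by omega) (by omega)
      · refine Cyc.all_of_pair hmz hzS hmz hzS (by omega) (by omega) (by omega) ?_
        rw [hgpow, if_pos (by omega), hzz]
        exact h2
  have hall := Cyc.all_of_one h1 hm
  refine TwoGen.of_le hA hB hE (Cyc.eichGroup_le hQ hall fun y hy => ?_)
  obtain ⟨s, u, rfl⟩ := hplane y (hS ▸ hy)
  have hz' := Cyc.shift_mem hall hmz hzS (j := 2) (by omega) (by omega) (by omega)
    (s + u * ((1 - r * t) / r))
  have hσ := Cyc.shift_mem hall hmz hzS (j := 1) (by omega) (by omega) (by omega) (-(u / r))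
  rw [hgpow, if_pos (by omega)] at hz'
  rw [hgpow, if_neg (by omega), hgz, hσz] at hσ
  convert hz'.add hσ using 1
  match_scalars <;> field_simp <;> ring

end

end Cfsg.Agent.Lib.OrthTwoGen
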