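import Cfsg.Agent.Lib.OrthTwoGen.Engine

/-!
The two generators: a signed cycle made of root elements and two reflections, and a torus element
times a commuting root element.
-/

set_option autoImplicit false

namespace Cfsg.Agent.Lib.OrthTwoGen

open QuadraticMap (polarBilin)
open Cfsg.Agent.Lib.Geometry (quadIsometries mem_quadIsometries quad_add quad_sub quad_smul
  quad_polar_self quad_polar_comm quad_polar_map refl refl_apply refl_apply_self refl_conj refl_mul_self)
open Cfsg.Agent.Lib.Classical (eich eichLin eichLin_apply eich_apply eich_conj eich_congr eich_mul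
  eich_inv eichGroup HypTwo exists_eich_map iso_polarBilin)
open scoped commutatorElement

attribute [-simp] QuadraticMap.polarBilin_apply_apply

variable {F V : Type*} [Field F] [AddCommGroup V] [Module F V] (Q : QuadraticForm F V)

/-- `k` hyperbolic pairs. -/
structure Frame (k : ℕ) (e f : ℕ → V) : Prop where
  qe : ∀ i < k, Q (e i) = 0
  qf : ∀ i < k, Q (f i) = 0
  ee : ∀ i < k, ∀ j < k, polarBilin Q (e i) (e j) = 0
  ff : ∀ i < k, ∀ j < k, polarBilin Q (f i) (f j) = 0
  ef : ∀ i < k, ∀ j < k, polarBilin Q (e i) (f j) = if i = j then 1 else 0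

variable {Q}

theorem Frame.fe {k : ℕ} {e f : ℕ → V} (h : Frame Q k e f) (i : ℕ) (hi : i < k) (j : ℕ) (hj : j < k) :
    polarBilin Q (f i) (e j) = if i = j then 1 else 0 := by
  rw [quad_polar_comm, h.ef j hj i hi]
  by_cases hh : i = j
  · rw [if_pos hh, if_pos hh.symm]
  · rw [if_neg hh, if_neg (Ne.symm hh)]

theorem Frame.mono {k l : ℕ} {e f : ℕ → V} (h : Frame Q k e f) (hl : l ≤ k) : Frame Q l e f :=
  ⟨fun i hi => h.qe i (by omega), fun i hi => h.qf i (by omega),
    fun i hi j hj => h.ee i (by omega) j (by omega), fun i hi j hj => h.ff i (by omega) j (by omega),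
    fun i hi j hj => h.ef i (by omega) j (by omega)⟩

/-- Everything orthogonal to the first `k` pairs. -/
def perpFrame (Q : QuadraticForm F V) (k : ℕ) (e f : ℕ → V) : Submodule F V where
  carrier := {z | ∀ i < k, polarBilin Q (e i) z = 0 ∧ polarBilin Q (f i) z = 0}
  add_mem' {x y} hx hy i hi := by
    rw [map_add, map_add, (hx i hi).1, (hx i hi).2, (hy i hi).1, (hy i hi).2]; simp
  zero_mem' i hi := by simp
  smul_mem' c x hx i hi := by
    rw [pol_smul_right, pol_smul_right, (hx i hi).1, (hx i hi).2]; simp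

theorem Frame.decomp {k : ℕ} {e f : ℕ → V} (h : Frame Q k e f) (v : V) :
    v - ∑ i ∈ Finset.range k, (polarBilin Q v (f i) • e i + polarBilin Q v (e i) • f i) ∈
      perpFrame Q k e f := by
  intro j hj
  have hjr := Finset.mem_range.mpr hj
  constructor <;>
  · rw [map_sub, map_sum, Finset.sum_eq_single j]
    · simp [h.ee j hj j hj, h.ff j hj j hj, h.ef j hj j hj, h.fe j hj j hj,
        quad_polar_comm Q v]
    · intro i hi hne
      rw [Finset.mem_range] at hi
      simp [h.ee j hj i hi, h.ff j hj i hi, h.ef j hj i hi, h.fe j hj i hi, hne.symm]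
    · exact fun hh => absurd hjr hh

section ops

variable {k : ℕ} {e f : ℕ → V} (K : Subgroup (quadIsometries Q))

theorem exists_rot (hfr : Frame Q k e f)
    (hlong : ∀ (u x : V) (hu : Q u = 0) (hx : polarBilin Q u x = 0), Q x = 0 → eich Q u x hu hx ∈ K)
    {i : ℕ} (hi : i + 1 < k) :
    ∃ J ∈ K, J.1 (e i) = e (i + 1) ∧ J.1 (e (i + 1)) = -e i ∧ J.1 (f i) = f (i + 1) ∧
      J.1 (f (i + 1)) = -f i ∧
      ∀ y, polarBilin Q (e i) y = 0 → polarBilin Q (f i) y = 0 → polarBilin Q (e (i + 1)) y = 0 →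
        polarBilin Q (f (i + 1)) y = 0 → J.1 y = y := by
  have hi' : i < k := by omega
  have hA : polarBilin Q (e (i + 1)) (-f i) = 0 := by
    rw [map_neg, hfr.ef _ hi _ hi', if_neg (by omega), neg_zero]
  have hB : polarBilin Q (e i) (f (i + 1)) = 0 := by rw [hfr.ef _ hi' _ hi, if_neg (by omega)]
  set A := eich Q (e (i + 1)) (-f i) (hfr.qe _ hi) hA with hAdef
  set B := eich Q (e i) (f (i + 1)) (hfr.qe _ hi') hB with hBdef
  have hAK : A ∈ K := hlong _ _ _ _ (by rw [QuadraticMap.map_neg, hfr.qf _ hi'])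
  have hBK : B ∈ K := hlong _ _ _ _ (hfr.qf _ hi)
  have act : ∀ y, (A * B * A).1 y = A.1 (B.1 (A.1 y)) := fun y => rfl
  refine ⟨A * B * A, mul_mem (mul_mem hAK hBK) hAK, ?_, ?_, ?_, ?_, fun y h1 h2 h3 h4 => ?_⟩ <;>
    rw [act]
  case refine_5 =>
    have hAy : A.1 y = y := by
      rw [hAdef, eich_apply, quad_polar_comm Q y, h3, quad_polar_comm Q y]
      simp [h2]
    have hBy : B.1 y = y := by
      rw [hBdef, eich_apply, quad_polar_comm Q y, h1, quad_polar_comm Q y, h4]
      simp
    rw [hAy, hBy, hAy]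
  all_goals
    simp [hAdef, hBdef, eich_apply, hfr.qe _ hi', hfr.qf _ hi', hfr.qe _ hi, hfr.qf _ hi,
      QuadraticMap.map_neg, hfr.ee _ hi' _ hi', hfr.ee _ hi' _ hi, hfr.ee _ hi _ hi',
      hfr.ee _ hi _ hi, hfr.ff _ hi' _ hi', hfr.ff _ hi' _ hi, hfr.ff _ hi _ hi',
      hfr.ff _ hi _ hi, hfr.ef _ hi' _ hi', hfr.ef _ hi' _ hi, hfr.ef _ hi _ hi',
      hfr.ef _ hi _ hi, hfr.fe _ hi' _ hi', hfr.fe _ hi' _ hi, hfr.fe _ hi _ hi',
      hfr.fe _ hi _ hi]

theorem exists_perm (hfr : Frame Q k e f)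
    (hlong : ∀ (u x : V) (hu : Q u = 0) (hx : polarBilin Q u x = 0), Q x = 0 → eich Q u x hu hx ∈ K)
    {l : ℕ} (hl : l < k) :
    ∃ π ∈ K, (∀ i < l, π.1 (e i) = e (i + 1) ∧ π.1 (f i) = f (i + 1)) ∧
      π.1 (e l) = (-1 : F) ^ l • e 0 ∧ π.1 (f l) = (-1 : F) ^ l • f 0 ∧
      ∀ y, (∀ i ≤ l, polarBilin Q (e i) y = 0 ∧ polarBilin Q (f i) y = 0) → π.1 y = y := by
  induction l with
  | zero =>
    exact ⟨1, one_mem K, fun i hi => absurd hi (by omega), by simp, by simp, fun y _ => rfl⟩
  | succ l ih =>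
    obtain ⟨π, hπ, hlo, hle, hlf, hfix⟩ := ih (by omega)
    obtain ⟨J, hJ, j1, j2, j3, j4, jfix⟩ := exists_rot K hfr hlong hl
    have act : ∀ y, (π * J).1 y = π.1 (J.1 y) := fun y => rfl
    have hnext : ∀ i ≤ l, (polarBilin Q (e i) (e (l + 1)) = 0 ∧ polarBilin Q (f i) (e (l + 1)) = 0) ∧
        polarBilin Q (e i) (f (l + 1)) = 0 ∧ polarBilin Q (f i) (f (l + 1)) = 0 := fun i hi => by
      rw [hfr.ee i (by omega) _ hl, hfr.fe i (by omega) _ hl, hfr.ef i (by omega) _ hl,
        hfr.ff i (by omega) _ hl, if_neg (by omega)]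
      simp
    refine ⟨π * J, mul_mem hπ hJ, fun i hi => ?_, ?_, ?_, fun y hy => ?_⟩
    · rcases Nat.lt_or_ge i l with h | h
      · have hfx : J.1 (e i) = e i ∧ J.1 (f i) = f i := by
          constructor <;> refine jfix _ ?_ ?_ ?_ ?_ <;>
            simp [hfr.ee _ (show l < k by omega) i (by omega), hfr.ee _ hl i (by omega),
              hfr.ff _ (show l < k by omega) i (by omega), hfr.ff _ hl i (by omega),
              hfr.ef _ (show l < k by omega) i (by omega), hfr.ef _ hl i (by omega),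
              hfr.fe _ (show l < k by omega) i (by omega), hfr.fe _ hl i (by omega),
              show l ≠ i by omega, show l + 1 ≠ i by omega]
        rw [act, act, hfx.1, hfx.2]
        exact hlo i h
      · obtain rfl : i = l := by omega
        rw [act, act, j1, j3]
        exact ⟨hfix _ fun a ha => (hnext a ha).1, hfix _ fun a ha => (hnext a ha).2⟩
    · rw [act, j2, map_neg, hle, pow_succ, mul_neg, mul_one, neg_smul]
    · rw [act, j4, map_neg, hlf, pow_succ, mul_neg, mul_one, neg_smul]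
    · rw [act, jfix y (hy l (by omega)).1 (hy l (by omega)).2 (hy (l + 1) le_rfl).1
        (hy (l + 1) le_rfl).2]
      exact hfix y fun i hi => hy i (by omega)

theorem refl_fix {v y : V} (h : polarBilin Q v y = 0) : (refl Q v).1 y = y := by
  rw [refl_apply, h, mul_zero, zero_smul, sub_zero]

/-- Two reflections of equal value make a commutator. -/
theorem refl_pair_mem_commutator {e₀ f₀ e₁ f₁ : V} (h : HypTwo Q ⊤ e₀ f₀ e₁ f₁) {u v : V}
    (hu : Q u ≠ 0) (huv : Q u = Q v) : refl Q u * refl Q v ∈ commutator (quadIsometries Q) := by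
  have hu0 : u ≠ 0 := fun hh => hu (by rw [hh, QuadraticMap.map_zero])
  have hv0 : v ≠ 0 := fun hh => hu (by rw [huv, hh, QuadraticMap.map_zero])
  obtain ⟨g, -, hg⟩ := exists_eich_map h (v := u) (w := v) trivial hu0 trivial hv0 huv
  have : refl Q u * refl Q v = ⁅refl Q u, g⁆ := by
    have hinv : (refl Q u)⁻¹ = refl Q u := inv_eq_of_mul_eq_one_right (refl_mul_self Q u)
    rw [commutatorElement_def, hinv, ← hg, ← refl_conj]
    simp only [mul_assoc]
  rw [this, commutator_def]
  exact Subgroup.commutator_mem_commutator trivial trivial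

theorem exists_cycle (hfr : Frame Q k e f) (hk : 2 ≤ k)
    (hlong : ∀ (u x : V) (hu : Q u = 0) (hx : polarBilin Q u x = 0), Q x = 0 →
      eich Q u x hu hx ∈ commutator (quadIsometries Q))
    (hQ : (polarBilin Q).Nondegenerate)
    {c : F} (hc : c ≠ 0) {v : V} (hv : v ∈ perpFrame Q k e f) (hqv : Q v = -c) :
    ∃ g ∈ commutator (quadIsometries Q),
      (∀ i, i + 1 < k → g.1 (e i) = e (i + 1) ∧ g.1 (f i) = f (i + 1)) ∧
      g.1 (e (k - 1)) = ((-1 : F) ^ (k - 1) * c) • f 0 ∧
      g.1 (f (k - 1)) = ((-1 : F) ^ (k - 1) * c⁻¹) • e 0 ∧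
      ∀ y ∈ perpFrame Q k e f, g.1 y = (refl Q v).1 y := by
  obtain ⟨π, hπ, hlo, hle, hlf, hfix⟩ := exists_perm (commutator (quadIsometries Q)) hfr hlong
    (show k - 1 < k by omega)
  set u : V := e 0 - c • f 0 with hu
  have h0 : 0 < k := by omega
  have hqu : Q u = -c := by
    rw [hu, quad_sub, quad_smul, hfr.qe 0 h0, hfr.qf 0 h0, pol_smul_right, hfr.ef 0 h0 0 h0, if_pos rfl]
    ring
  have h2 : HypTwo Q ⊤ (e 0) (f 0) (e 1) (f 1) := by
    refine ⟨trivial, trivial, trivial, trivial, hfr.qe 0 h0, hfr.qf 0 h0, hfr.qe 1 (by omega),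
      hfr.qf 1 (by omega), ?_, ?_, hfr.ee 0 h0 1 (by omega), ?_, ?_, hfr.ff 0 h0 1 (by omega), ?_⟩
    · rw [hfr.ef 0 h0 0 h0, if_pos rfl]
    · rw [hfr.ef 1 (by omega) 1 (by omega), if_pos rfl]
    · rw [hfr.ef 0 h0 1 (by omega), if_neg (by omega)]
    · rw [hfr.fe 0 h0 1 (by omega), if_neg (by omega)]
    · intro z _ hz0
      by_contra hall0
      push Not at hall0
      exact hz0 (hQ.1 z fun y => hall0 y trivial)
  have hρ := refl_pair_mem_commutator h2 (u := u) (v := v) (by rw [hqu]; exact neg_ne_zero.mpr hc)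
    (by rw [hqu, hqv])
  have hrv : ∀ i < k, (refl Q v).1 (e i) = e i ∧ (refl Q v).1 (f i) = f i := fun i hi =>
    ⟨refl_fix (by rw [quad_polar_comm]; exact (hv i hi).1),
      refl_fix (by rw [quad_polar_comm]; exact (hv i hi).2)⟩
  have hru : ∀ i < k, i ≠ 0 → (refl Q u).1 (e i) = e i ∧ (refl Q u).1 (f i) = f i := fun i hi hne => by
    constructor <;> refine refl_fix ?_ <;>
      simp [hu, pol_smul_left, hfr.ee 0 h0 i hi, hfr.ff 0 h0 i hi, hfr.ef 0 h0 i hi,
        hfr.fe 0 h0 i hi, hne.symm]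
  have act : ∀ y, (refl Q u * refl Q v * π).1 y = (refl Q u).1 ((refl Q v).1 (π.1 y)) := fun y => rfl
  refine ⟨refl Q u * refl Q v * π, mul_mem hρ hπ, fun i hi => ?_, ?_, ?_, fun y hy => ?_⟩
  · rw [act, act, (hlo i (by omega)).1, (hlo i (by omega)).2, (hrv _ hi).1, (hrv _ hi).2]
    exact hru _ hi (by omega)
  · have hu_e : polarBilin Q u (e 0) = -c := by
      rw [hu, map_sub, LinearMap.sub_apply, pol_smul_left, hfr.ee 0 h0 0 h0, hfr.fe 0 h0 0 h0,
        if_pos rfl]
      ring
    rw [act, hle, map_smul, (hrv 0 h0).1, map_smul, refl_apply, hqu, hu_e,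
      inv_mul_cancel₀ (neg_ne_zero.mpr hc), one_smul, hu, sub_sub_cancel, smul_smul]
  · have hu_f : polarBilin Q u (f 0) = 1 := by
      rw [hu, map_sub, LinearMap.sub_apply, pol_smul_left, hfr.ff 0 h0 0 h0, hfr.ef 0 h0 0 h0,
        if_pos rfl]
      ring
    rw [act, hlf, map_smul, (hrv 0 h0).2, map_smul, refl_apply, hqu, hu_f, mul_one, hu, smul_sub,
      smul_smul]
    match_scalars <;> field_simp <;> ring
  · have hfy : π.1 y = y := hfix y fun i hi => hy i (by omega)
    have hru' : ∀ z ∈ perpFrame Q k e f, (refl Q u).1 z = z := fun z hz => refl_fix (by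
      rw [hu, map_sub, LinearMap.sub_apply, pol_smul_left, (hz 0 h0).1, (hz 0 h0).2]
      ring)
    rw [act, hfy]
    refine hru' _ ?_
    rw [refl_apply]
    exact Submodule.sub_mem _ hy (Submodule.smul_mem _ _ hv)

theorem exists_torus (hfr : Frame Q k e f) {i : ℕ} (hi : i < k) {t : F} (ht : t ≠ 0) :
    ∃ h ∈ commutator (quadIsometries Q), h.1 (e i) = (t * t) • e i ∧ h.1 (f i) = (t * t)⁻¹ • f i ∧
      ∀ y, polarBilin Q (e i) y = 0 → polarBilin Q (f i) y = 0 → h.1 y = y := by
  set u : V := e i - t⁻¹ • f i with hu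
  set w : V := e i - f i with hw
  have hqu : Q u = -t⁻¹ := by
    rw [hu, quad_sub, quad_smul, hfr.qe i hi, hfr.qf i hi, pol_smul_right, hfr.ef i hi i hi, if_pos rfl]
    ring
  have hqw : Q w = -1 := by
    rw [hw, quad_sub, hfr.qe i hi, hfr.qf i hi, hfr.ef i hi i hi, if_pos rfl]
    ring
  have e1 : (refl Q w).1 (e i) = f i := by
    rw [refl_apply, hqw, hw, map_sub, LinearMap.sub_apply, hfr.ee i hi i hi, hfr.fe i hi i hi,
      if_pos rfl]
    simp
  have e2 : (refl Q w).1 (f i) = e i := by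
    rw [refl_apply, hqw, hw, map_sub, LinearMap.sub_apply, hfr.ef i hi i hi, hfr.ff i hi i hi,
      if_pos rfl]
    simp
  have e3 : (refl Q u).1 (e i) = t⁻¹ • f i := by
    rw [refl_apply, hqu, hu, map_sub, LinearMap.sub_apply, pol_smul_left, hfr.ee i hi i hi,
      hfr.fe i hi i hi, if_pos rfl, zero_sub, mul_one, inv_mul_cancel₀ (by simp [ht]), one_smul,
      sub_sub_cancel]
  have e4 : (refl Q u).1 (f i) = t • e i := by
    rw [refl_apply, hqu, hu, map_sub, LinearMap.sub_apply, pol_smul_left, hfr.ef i hi i hi,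
      hfr.ff i hi i hi, if_pos rfl]
    match_scalars <;> field_simp <;> ring
  have inv : ∀ v : V, (refl Q v)⁻¹ = refl Q v := fun v =>
    inv_eq_of_mul_eq_one_right (refl_mul_self Q v)
  refine ⟨⁅refl Q u, refl Q w⁆, by
    rw [commutator_def]; exact Subgroup.commutator_mem_commutator trivial trivial, ?_⟩
  have act : ∀ y, (⁅refl Q u, refl Q w⁆).1 y =
      (refl Q u).1 ((refl Q w).1 ((refl Q u).1 ((refl Q w).1 y))) := fun y => by
    rw [commutatorElement_def, inv, inv]; rfl
  refine ⟨?_, ?_, fun y h1 h2 => ?_⟩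
  · rw [act, e1, e4, map_smul, e1, map_smul, e4, smul_smul]
  · rw [act, e2, e3, map_smul, e2, map_smul, e3, smul_smul, mul_inv]
  · have fw : (refl Q w).1 y = y := refl_fix (by rw [hw, map_sub, LinearMap.sub_apply, h1, h2, sub_zero])
    have fu : (refl Q u).1 y = y := refl_fix (by
      rw [hu, map_sub, LinearMap.sub_apply, pol_smul_left, h1, h2, mul_zero, sub_zero])
    rw [act, fw, fu, fw, fu]

theorem eich_pow {u x : V} (hu : Q u = 0) (hx : polarBilin Q u x = 0) (N : ℕ)
    (hN : polarBilin Q u ((N : F) • x) = 0) :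
    eich Q u x hu hx ^ N = eich Q u ((N : F) • x) hu hN := by
  induction N with
  | zero =>
    rw [pow_zero]
    refine Subtype.ext (LinearEquiv.ext fun y => ?_)
    rw [eich_apply]
    simp
  | succ N ih =>
    rw [pow_succ, ih (by rw [pol_smul_right, hx, mul_zero]), eich_mul]
    exact eich_congr Q _ _ _ _ fun y => by rw [Nat.cast_succ, add_smul, one_smul]

/-- The cycle of vectors. -/
def vecCycle (n : ℕ) (e f : ℕ → V) (κ : F) (i : ℕ) : V :=
  if i % (2 * n) < n then e (i % (2 * n)) else κ • f (i % (2 * n) - n)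

theorem vecCycle_low {n : ℕ} (κ : F) {i : ℕ} (hi : i < n) : vecCycle n e f κ i = e i := by
  rw [vecCycle, Nat.mod_eq_of_lt (by omega), if_pos hi]

theorem vecCycle_high {n : ℕ} (κ : F) {i : ℕ} (hi : n ≤ i) (hi2 : i < 2 * n) :
    vecCycle n e f κ i = κ • f (i - n) := by
  rw [vecCycle, Nat.mod_eq_of_lt hi2, if_neg (by omega)]

/-- Generators and the associated cycle. -/
theorem exists_setup [Fintype F] {n : ℕ} (hn : 2 ≤ n) (hfr : Frame Q n e f)
    (hlong : ∀ (u x : V) (hu : Q u = 0) (hx : polarBilin Q u x = 0), Q x = 0 →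
      eich Q u x hu hx ∈ commutator (quadIsometries Q))
    (hQ : (polarBilin Q).Nondegenerate)
    {c : F} (hc : c ≠ 0) {v : V} (hv : v ∈ perpFrame Q n e f) (hqv : Q v = -c)
    {c0 : ℕ} (hc0 : 0 < c0) (hc0n : c0 < n) {a : V}
    (hae : polarBilin Q (e c0) a = 0) (haf : polarBilin Q (f c0) a = 0)
    (ha : polarBilin Q (e 0) a = 0)
    (hx : eich Q (e 0) a (hfr.qe 0 (by omega)) ha ∈ commutator (quadIsometries Q)) :
    ∃ A B : quadIsometries Q, A ∈ commutator (quadIsometries Q) ∧ B ∈ commutator (quadIsometries Q) ∧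
      ∃ C : Cyc Q (Subgroup.closure {A, B}), C.n = n ∧ C.κ = (-1 : F) ^ (n - 1) * c ∧
        C.S = perpFrame Q n e f ∧
        (∀ i < n, C.P i = e i) ∧ (∀ i < n, C.P (n + i) = ((-1 : F) ^ (n - 1) * c) • f i) ∧
        (∀ y ∈ perpFrame Q n e f, C.g.1 y = (refl Q v).1 y) ∧ C.Mem a := by
  obtain ⟨g, hg, glo, gle, glf, gfix⟩ := exists_cycle hfr hn hlong hQ hc hv hqv
  obtain ⟨k, hk⟩ := IsCyclic.exists_monoid_generator (α := Fˣ)
  obtain ⟨h, hh, hhe, hhf, hhfix⟩ := exists_torus hfr hc0n k.ne_zero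
  set x := eich Q (e 0) a (hfr.qe 0 (by omega)) ha with hxdef
  set H := Subgroup.closure {g, h * x} with hH
  have hgH : g ∈ H := Subgroup.subset_closure (by simp)
  have hhxH : h * x ∈ H := Subgroup.subset_closure (by simp)
  have h0 : (0 : ℕ) < n := by omega
  have hcomm : Commute h x := by
    have h1 : h.1 (e 0) = e 0 := hhfix _ (hfr.ee _ hc0n _ h0)
      (by rw [hfr.fe _ hc0n _ h0, if_neg (by omega)])
    have : h * x * h⁻¹ = x := by
      rw [hxdef, eich_conj]
      exact eich_congr Q _ _ _ _ fun y => by rw [h1, hhfix a hae haf]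
    exact mul_inv_eq_iff_eq_mul.mp this
  have hord : h ^ (Fintype.card F - 1) = 1 := by
    refine Subtype.ext (LinearEquiv.ext fun y => ?_)
    show (h ^ (Fintype.card F - 1)).1 y = y
    have hy := hfr.decomp y
    set p := polarBilin Q y (f c0) with hp
    set r := polarBilin Q y (e c0) with hr
    have hpow : ∀ N : ℕ, (h ^ N).1 y = y + (((k : F) * k) ^ N - 1) • (p • e c0) +
        ((((k : F) * k)⁻¹) ^ N - 1) • (r • f c0) := by
      intro N
      induction N with
      | zero => simp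
      | succ N ih =>
        have hy0 : h.1 y = y + ((k : F) * k - 1) • (p • e c0) + (((k : F) * k)⁻¹ - 1) • (r • f c0) := by
          have hfy : h.1 (y - (p • e c0 + r • f c0)) = y - (p • e c0 + r • f c0) := by
            refine hhfix _ ?_ ?_ <;>
              simp [hp, hr, pol_smul_right, hfr.ee _ hc0n _ hc0n, hfr.ff _ hc0n _ hc0n,
                hfr.ef _ hc0n _ hc0n, hfr.fe _ hc0n _ hc0n, quad_polar_comm Q y]
          rw [map_sub, map_add, map_smul, map_smul, hhe, hhf, sub_eq_iff_eq_add] at hfy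
          rw [hfy]
          module
        rw [pow_succ']
        show h.1 ((h ^ N).1 y) = _
        rw [ih, map_add, map_add, map_smul, map_smul, map_smul, map_smul, hy0, hhe, hhf, pow_succ',
          pow_succ']
        module
    have hk1 : (k : F) ^ (Fintype.card F - 1) = 1 := FiniteField.pow_card_sub_one_eq_one _ k.ne_zero
    rw [hpow, inv_pow, mul_pow, hk1]
    simp
  have hq0 : ((Fintype.card F - 1 : ℕ) : F) = -1 := by
    rw [Nat.cast_sub Fintype.card_pos, Nat.cast_card_eq_zero, Nat.cast_one, zero_sub]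
  have hxH : x ∈ H := by
    have := pow_mem hhxH (Fintype.card F - 1)
    rw [hcomm.mul_pow, hord, one_mul, hxdef, eich_pow _ _ _ (by rw [pol_smul_right, ha, mul_zero])] at this
    have := inv_mem this
    rw [eich_inv] at this
    exact mem_of_eich_eq this rfl (by rw [hq0, neg_one_smul, neg_neg])
  have hhH : h ∈ H := by simpa using mul_mem hhxH (inv_mem hxH)
  set s : F := (-1) ^ (n - 1) with hs
  have hss : s * s = 1 := by rw [hs, ← mul_pow, neg_mul_neg, one_mul, one_pow]
  set κ := s * c with hκdef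
  have hκ : κ ≠ 0 := mul_ne_zero (fun e => by rw [e, mul_zero] at hss; exact zero_ne_one hss) hc
  set P := vecCycle n e f κ with hP
  have hper : ∀ i, P (i + 2 * n) = P i := fun i => by
    simp only [hP, vecCycle, Nat.add_mod_right]
  have hgP' : ∀ i < 2 * n, g.1 (P i) = P (i + 1) := by
    intro i hi
    rcases Nat.lt_or_ge i n with h1 | h1
    · rw [hP, vecCycle_low κ h1]
      rcases Nat.lt_or_ge (i + 1) n with h2 | h2
      · rw [vecCycle_low κ h2, (glo i h2).1]
      · obtain rfl : i = n - 1 := by omega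
        rw [vecCycle_high κ h2 (by omega), gle, show n - 1 + 1 - n = 0 by omega]
    · rw [hP, vecCycle_high κ h1 hi, map_smul]
      rcases Nat.lt_or_ge (i + 1) (2 * n) with h2 | h2
      · rw [vecCycle_high κ (by omega) h2, (glo (i - n) (by omega)).2,
          show i - n + 1 = i + 1 - n by omega]
      · obtain rfl : i = 2 * n - 1 := by omega
        rw [show 2 * n - 1 - n = n - 1 by omega, glf, smul_smul,
          show 2 * n - 1 + 1 = 2 * n by omega, vecCycle, Nat.mod_self, if_pos h0, hκdef]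
        rw [show s * c * (s * c⁻¹) = s * s * (c * c⁻¹) by ring, hss, mul_inv_cancel₀ hc, one_mul,
          one_smul]
  have hgP : ∀ i, g.1 (P i) = P (i + 1) := fun i => by
    have h1 := hgP' (i % (2 * n)) (Nat.mod_lt _ (by omega))
    have e1 : P (i % (2 * n)) = P i := by simp only [hP, vecCycle, Nat.mod_mod]
    have e2 : P (i % (2 * n) + 1) = P (i + 1) := by simp only [hP, vecCycle, Nat.mod_add_mod]
    rwa [e1, e2] at h1
  have hqP : ∀ i, Q (P i) = 0 := fun i => by
    have := Nat.mod_lt i (show 2 * n > 0 by omega)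
    simp only [hP, vecCycle]
    split
    · exact hfr.qe _ (by omega)
    · rw [quad_smul, hfr.qf _ (by omega), mul_zero]
  have hpol : ∀ i j, i < 2 * n → j < 2 * n →
      polarBilin Q (P i) (P j) = if i + n = j ∨ j + n = i then κ else 0 := by
    intro i j hi hj
    rcases Nat.lt_or_ge i n with h1 | h1 <;> rcases Nat.lt_or_ge j n with h2 | h2
    · rw [hP, vecCycle_low κ h1, vecCycle_low κ h2, hfr.ee i h1 j h2, if_neg (by omega)]
    · rw [hP, vecCycle_low κ h1, vecCycle_high κ h2 hj, pol_smul_right, hfr.ef i h1 _ (by omega)]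
      by_cases hh : i = j - n
      · rw [if_pos hh, if_pos (by omega), mul_one]
      · rw [if_neg hh, if_neg (by omega), mul_zero]
    · rw [hP, vecCycle_high κ h1 hi, vecCycle_low κ h2, pol_smul_left, hfr.fe _ (by omega) j h2]
      by_cases hh : i - n = j
      · rw [if_pos hh, if_pos (by omega), mul_one]
      · rw [if_neg hh, if_neg (by omega), mul_zero]
    · rw [hP, vecCycle_high κ h1 hi, vecCycle_high κ h2 hj, pol_smul_left, pol_smul_right,
        hfr.ff _ (by omega) _ (by omega), if_neg (by omega), mul_zero, mul_zero]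
  have hsP : ∀ z ∈ perpFrame Q n e f, ∀ i, polarBilin Q (P i) z = 0 := fun z hz i => by
    have := Nat.mod_lt i (show 2 * n > 0 by omega)
    simp only [hP, vecCycle]
    split
    · exact (hz _ (by omega)).1
    · rw [pol_smul_left, (hz _ (by omega)).2, mul_zero]
  have hgS : ∀ z ∈ perpFrame Q n e f, g.1 z ∈ perpFrame Q n e f := fun z hz => by
    rw [gfix z hz, refl_apply]
    exact Submodule.sub_mem _ hz (Submodule.smul_mem _ _ hv)
  have hspan : ∀ y : V, ∃ cc : ℕ → F, ∃ z ∈ perpFrame Q n e f,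
      y = (∑ i ∈ Finset.range (2 * n), cc i • P i) + z := fun y => by
    refine ⟨fun i => if i < n then polarBilin Q y (f i) else polarBilin Q y (e (i - n)) / κ, _,
      hfr.decomp y, ?_⟩
    rw [two_mul, Finset.sum_range_add, Finset.sum_add_distrib]
    have e1 : ∀ i ∈ Finset.range n, (if i < n then polarBilin Q y (f i) else
        polarBilin Q y (e (i - n)) / κ) • P i = polarBilin Q y (f i) • e i := fun i hi => by
      rw [Finset.mem_range] at hi
      rw [if_pos hi, hP, vecCycle_low κ hi]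
    have e2 : ∀ i ∈ Finset.range n, (if n + i < n then polarBilin Q y (f (n + i)) else
        polarBilin Q y (e (n + i - n)) / κ) • P (n + i) = polarBilin Q y (e i) • f i := fun i hi => by
      rw [Finset.mem_range] at hi
      rw [if_neg (by omega), hP, vecCycle_high κ (by omega) (by omega), smul_smul,
        show n + i - n = i by omega, div_mul_cancel₀ _ hκ]
    rw [Finset.sum_congr rfl e1, Finset.sum_congr rfl e2]
    abel
  have hpowg : ∀ i j, (g ^ i).1 (P j) = P (j + i) := fun i j => by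
    induction i with
    | zero => rfl
    | succ i ih =>
      rw [pow_succ']
      show g.1 ((g ^ i).1 (P j)) = _
      rw [ih, hgP, Nat.add_assoc]
  have hsc : ∀ j, j < 2 * n → j ≠ 0 → j ≠ n → ∀ t : F, t ≠ 0 →
      ∃ h' ∈ H, h'.1 (P 0) = P 0 ∧ h'.1 (P j) = (t * t) • P j := by
    intro j hj hj0 hjn t ht
    obtain ⟨i, hi⟩ := hk (Units.mk0 t ht)
    have hi' : (k : F) ^ i = t := by simpa using congrArg Units.val hi
    let s' := (j + 2 * n - c0) % (2 * n)
    have hs' : s' < 2 * n := Nat.mod_lt _ (by omega)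
    have hsj : s' + c0 = j ∨ s' + c0 = j + 2 * n := by
      simp only [s']
      rcases Nat.lt_or_ge j c0 with h' | h'
      · rw [Nat.mod_eq_of_lt (by omega)]; omega
      · rw [show j + 2 * n - c0 = j - c0 + 2 * n by omega, Nat.add_mod_right,
          Nat.mod_eq_of_lt (by omega)]; omega
    have hPj : (g ^ s').1 (P c0) = P j := by
      rw [hpowg]
      rcases hsj with h' | h' <;> rw [show c0 + s' = s' + c0 by omega, h']
      exact hper j
    have hP0 : (g ^ s').1 (P (2 * n - s')) = P 0 := by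
      rw [hpowg, show 2 * n - s' + s' = 0 + 2 * n by omega]; exact hper 0
    have hfix0 : h.1 (P (2 * n - s')) = P (2 * n - s') := by
      rcases Nat.eq_zero_or_pos s' with h' | h'
      · rw [h', Nat.sub_zero, show 2 * n = 0 + 2 * n by omega, hper, hP, vecCycle_low κ h0]
        exact hhfix _ (hfr.ee _ hc0n _ h0) (by rw [hfr.fe _ hc0n _ h0, if_neg (by omega)])
      · refine hhfix _ ?_ ?_
        · have := hpol c0 (2 * n - s') (by omega) (by omega)
          rw [hP, vecCycle_low κ hc0n] at this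
          rw [hP, this, if_neg (by omega)]
        · have := hpol (n + c0) (2 * n - s') (by omega) (by omega)
          rw [hP, vecCycle_high κ (by omega) (by omega), pol_smul_left,
            show n + c0 - n = c0 by omega, if_neg (by omega)] at this
          rw [hP]
          exact (mul_eq_zero.mp this).resolve_left hκ
    have hpowfix : ∀ N : ℕ, (h ^ N).1 (P (2 * n - s')) = P (2 * n - s') := fun N => by
      induction N with
      | zero => rfl
      | succ N ih => rw [pow_succ']; show h.1 ((h ^ N).1 _) = _; rw [ih, hfix0]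
    have hpowsc : ∀ N : ℕ, (h ^ N).1 (P c0) = (((k : F) * k) ^ N) • P c0 := fun N => by
      induction N with
      | zero => simp
      | succ N ih =>
        rw [pow_succ']
        show h.1 ((h ^ N).1 _) = _
        rw [ih, map_smul, hP, vecCycle_low κ hc0n, hhe, smul_smul, pow_succ]
    refine ⟨g ^ s' * h ^ i * (g ^ s')⁻¹, mul_mem (mul_mem (pow_mem hgH _) (pow_mem hhH _))
      (inv_mem (pow_mem hgH _)), ?_, ?_⟩
    · show (g ^ s').1 ((h ^ i).1 ((g ^ s').1.symm (P 0))) = _
      rw [(LinearEquiv.symm_apply_eq _).mpr hP0.symm, hpowfix, hP0]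
    · show (g ^ s').1 ((h ^ i).1 ((g ^ s').1.symm (P j))) = _
      rw [(LinearEquiv.symm_apply_eq _).mpr hPj.symm, hpowsc, map_smul, hPj, mul_pow, hi']
  let C : Cyc Q H := ⟨n, hn, P, g, κ, hκ, perpFrame Q n e f, hper, hgP, hgH, hqP, hpol, hsP, hgS,
    hspan, hsc⟩
  refine ⟨g, h * x, hg, mul_mem hh hx, C, rfl, rfl, rfl, fun i hi => vecCycle_low κ hi,
    fun i hi => ?_, gfix, ?_⟩
  · show P (n + i) = _
    rw [hP, vecCycle_high κ (by omega) (by omega), show n + i - n = i by omega]
  · refine ⟨?_, ?_⟩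
    · show polarBilin Q (P 0) a = 0
      rw [hP, vecCycle_low κ h0, ha]
    · exact mem_of_eich_eq hxH (vecCycle_low κ h0).symm rfl

end ops

end Cfsg.Agent.Lib.OrthTwoGen
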