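import Cfsg.Agent.Lib.OrthTwoGen.Trans

/-!
The orbit of one root group under a cycle of length `2n`: rules for the additive group
`{x | eich (P 0) x ∈ H}`.
-/

set_option autoImplicit false

namespace Cfsg.Agent.Lib.OrthTwoGen

open QuadraticMap (polarBilin)
open Cfsg.Agent.Lib.Geometry (quadIsometries mem_quadIsometries quad_add quad_smul quad_polar_self
  quad_polar_comm quad_polar_map)
open Cfsg.Agent.Lib.Classical (eich eichLin eichLin_apply eich_apply eich_conj eich_congr eich_mul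
  eich_inv eichGroup HypTwo iso_polarBilin)

attribute [-simp] QuadraticMap.polarBilin_apply_apply

variable {F V : Type*} [Field F] [AddCommGroup V] [Module F V]

/-- The data of a cycle in `H`. -/
structure Cyc (Q : QuadraticForm F V) (H : Subgroup (quadIsometries Q)) where
  /-- half the period -/
  n : ℕ
  hn : 2 ≤ n
  /-- the singular vectors -/
  P : ℕ → V
  /-- the cycle -/
  g : quadIsometries Q
  /-- the common value of the pairings -/
  κ : F
  hκ : κ ≠ 0
  /-- the complement -/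
  S : Submodule F V
  per : ∀ i, P (i + 2 * n) = P i
  gP : ∀ i, g.1 (P i) = P (i + 1)
  gH : g ∈ H
  qP : ∀ i, Q (P i) = 0
  pol : ∀ i j, i < 2 * n → j < 2 * n → polarBilin Q (P i) (P j) = if i + n = j ∨ j + n = i then κ else 0
  sP : ∀ z ∈ S, ∀ i, polarBilin Q (P i) z = 0
  gS : ∀ z ∈ S, g.1 z ∈ S
  span : ∀ v : V, ∃ c : ℕ → F, ∃ z ∈ S, v = (∑ i ∈ Finset.range (2 * n), c i • P i) + z
  sc : ∀ j, j < 2 * n → j ≠ 0 → j ≠ n → ∀ t : F, t ≠ 0 →
    ∃ h ∈ H, h.1 (P 0) = P 0 ∧ h.1 (P j) = (t * t) • P j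

variable {Q : QuadraticForm F V} {H : Subgroup (quadIsometries Q)}

theorem mem_of_eich_eq {u u' x x' : V} {hu : Q u = 0} {hx : polarBilin Q u x = 0} {hu' : Q u' = 0}
    {hx' : polarBilin Q u' x' = 0} (h : eich Q u x hu hx ∈ H) (e1 : u = u') (e2 : x = x') :
    eich Q u' x' hu' hx' ∈ H := by
  subst e1 e2
  exact h

theorem eich_symm {u v : V} (hu : Q u = 0) (hv : Q v = 0) (huv : polarBilin Q u v = 0)
    (hvu : polarBilin Q v (-u) = 0) : eich Q u v hu huv = eich Q v (-u) hv hvu :=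
  eich_congr Q _ _ _ _ fun y => by
    rw [eichLin_apply, eichLin_apply, QuadraticMap.map_neg, hu, hv, map_neg]
    module

theorem pol_smul_left (Q : QuadraticForm F V) (a : F) (x y : V) :
    polarBilin Q (a • x) y = a * polarBilin Q x y := by
  rw [LinearMap.map_smul, LinearMap.smul_apply, smul_eq_mul]

theorem pol_smul_right (Q : QuadraticForm F V) (a : F) (x y : V) :
    polarBilin Q x (a • y) = a * polarBilin Q x y := by
  rw [LinearMap.map_smul, smul_eq_mul]

theorem iterate_eq_pow (g : quadIsometries Q) (i : ℕ) (x : V) : (g ^ i).1 x = (g.1)^[i] x := by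
  induction i with
  | zero => rfl
  | succ i ih =>
    rw [Function.iterate_succ_apply', ← ih, pow_succ']
    rfl

namespace Cyc

variable (C : Cyc Q H)

/-- `eich (P 0) x ∈ H`. -/
def Mem (x : V) : Prop :=
  ∃ hx : polarBilin Q (C.P 0) x = 0, eich Q (C.P 0) x (C.qP 0) hx ∈ H

/-- All multiples of `P j` qualify. -/
def All (j : ℕ) : Prop := ∀ c : F, C.Mem (c • C.P j)

variable {C}

theorem gpowP (i j : ℕ) : (C.g ^ i).1 (C.P j) = C.P (j + i) := by
  rw [iterate_eq_pow]
  induction i with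
  | zero => rfl
  | succ i ih => rw [Function.iterate_succ_apply', ih, C.gP, Nat.add_assoc]

theorem gpowS (i : ℕ) {z : V} (hz : z ∈ C.S) : (C.g ^ i).1 z ∈ C.S := by
  rw [iterate_eq_pow]
  induction i with
  | zero => exact hz
  | succ i ih => rw [Function.iterate_succ_apply']; exact C.gS _ ih

theorem Mem.add {x y : V} (hx : C.Mem x) (hy : C.Mem y) : C.Mem (x + y) := by
  obtain ⟨h1, m1⟩ := hx
  obtain ⟨h2, m2⟩ := hy
  refine ⟨by rw [map_add, h1, h2, add_zero], ?_⟩
  rw [← eich_mul Q (C.qP 0) h1 h2]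
  exact mul_mem m1 m2

theorem Mem.neg {x : V} (hx : C.Mem x) : C.Mem (-x) := by
  obtain ⟨h1, m1⟩ := hx
  refine ⟨by rw [map_neg, h1, neg_zero], ?_⟩
  rw [← eich_inv Q (C.qP 0) h1]
  exact inv_mem m1

theorem Mem.sub {x y : V} (hx : C.Mem x) (hy : C.Mem y) : C.Mem (x - y) := by
  rw [sub_eq_add_neg]; exact hx.add hy.neg

theorem mem_smul_zero (c : F) : C.Mem (c • C.P 0) := by
  have h : polarBilin Q (C.P 0) (c • C.P 0) = 0 := by
    rw [map_smul, quad_polar_self, C.qP, mul_zero, smul_zero]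
  refine ⟨h, ?_⟩
  convert one_mem H
  refine Subtype.ext (LinearEquiv.ext fun y => ?_)
  rw [eich_apply, quad_smul, C.qP, map_smul, smul_eq_mul]
  show _ = y
  module

theorem mem_zero : C.Mem 0 := by simpa using mem_smul_zero (C := C) 0

theorem polP0 {j : ℕ} (hj : j < 2 * C.n) (h : j ≠ C.n) : polarBilin Q (C.P 0) (C.P j) = 0 := by
  have := C.hn
  rw [C.pol 0 j (by omega) hj, if_neg (by omega)]

theorem All.ne {j : ℕ} (h : C.All j) (hj : j < 2 * C.n) : j ≠ C.n := fun e => by
  obtain ⟨h1, -⟩ := h 1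
  rw [one_smul, C.pol 0 j (by omega) hj, if_pos (by omega)] at h1
  exact C.hκ h1

/-- Conjugation by the `j`-th translate of a member. -/
theorem Mem.act {z y : V} {j : ℕ} (hz : C.Mem z) (hy : C.Mem y) (hj : j < 2 * C.n) (hjn : j ≠ C.n)
    (hy0 : polarBilin Q (C.P 0) ((C.g ^ j).1 y) = 0) :
    C.Mem (z + polarBilin Q z (C.P j) • (C.g ^ j).1 y
      - (polarBilin Q z ((C.g ^ j).1 y) + Q y * polarBilin Q z (C.P j)) • C.P j) := by
  obtain ⟨h1, m1⟩ := hy
  obtain ⟨h2, m2⟩ := hz
  have hj' : (C.g ^ j).1 (C.P 0) = C.P j := by rw [gpowP, Nat.zero_add]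
  have hx : polarBilin Q (C.P j) ((C.g ^ j).1 y) = 0 := by rw [← hj', iso_polarBilin, h1]
  set e := eich Q (C.P j) ((C.g ^ j).1 y) (C.qP j) hx with he
  have hgj : C.g ^ j ∈ H := pow_mem C.gH j
  have heH : e ∈ H := by
    have := mul_mem (mul_mem hgj m1) (inv_mem hgj)
    rw [eich_conj] at this
    exact mem_of_eich_eq this hj' rfl
  have hfix : e.1 (C.P 0) = C.P 0 := by
    rw [he, eich_apply, polP0 hj hjn, hy0]
    simp
  have hval : e.1 z = z + polarBilin Q z (C.P j) • (C.g ^ j).1 y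
      - (polarBilin Q z ((C.g ^ j).1 y) + Q y * polarBilin Q z (C.P j)) • C.P j := by
    rw [he, eich_apply, mem_quadIsometries.mp (C.g ^ j).2]
  have hzz : polarBilin Q (C.P 0) (e.1 z) = 0 := by
    rw [← iso_polarBilin Q e, hfix] at h2
    exact h2
  rw [← hval]
  refine ⟨hzz, ?_⟩
  have := mul_mem (mul_mem heH m2) (inv_mem heH)
  rw [eich_conj] at this
  exact mem_of_eich_eq this hfix rfl

theorem Mem.smul_sq {j : ℕ} (hj : j < 2 * C.n) (hj0 : j ≠ 0) (hjn : j ≠ C.n) {c : F}
    (h : C.Mem (c • C.P j)) (t : F) : C.Mem ((c * (t * t)) • C.P j) := by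
  rcases eq_or_ne t 0 with rfl | ht
  · rw [mul_zero, mul_zero, zero_smul]; exact mem_zero
  obtain ⟨k, hk, hk0, hkj⟩ := C.sc j hj hj0 hjn t ht
  obtain ⟨h1, m1⟩ := h
  refine ⟨by rw [map_smul, polP0 hj hjn, smul_zero], ?_⟩
  have := mul_mem (mul_mem hk m1) (inv_mem hk)
  rw [eich_conj] at this
  exact mem_of_eich_eq this hk0 (by rw [map_smul, hkj, smul_smul])

theorem all_of_mem [Finite F] {j : ℕ} (hj : j < 2 * C.n) (hj0 : j ≠ 0) (hjn : j ≠ C.n) {c : F}
    (hc : c ≠ 0) (h : C.Mem (c • C.P j)) : C.All j := fun a => by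
  by_cases h2 : (2 : F) = 0
  · haveI : CharP F 2 := CharTwo.of_one_ne_zero_of_two_eq_zero one_ne_zero h2
    obtain ⟨t, ht⟩ := FiniteField.isSquare_of_char_two (ringChar.eq F 2) (a / c)
    have := h.smul_sq hj hj0 hjn t
    rwa [← ht, mul_div_cancel₀ _ hc] at this
  · have := (h.smul_sq hj hj0 hjn ((a / c + 1) / 2)).sub (h.smul_sq hj hj0 hjn ((a / c - 1) / 2))
    rw [← sub_smul] at this
    convert this using 2
    have h4 : (4 : F) ≠ 0 := by
      have h22 := mul_ne_zero h2 h2
      norm_num at h22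
      exact h22
    field_simp
    ring

theorem all_zero : C.All 0 := fun c => mem_smul_zero c

theorem All.of_eq {i j : ℕ} (h : C.All i) (e : C.P i = C.P j) : C.All j := fun c => e ▸ h c

theorem P_wrap {t l : ℕ} (h : t = l ∨ t + 2 * C.n = l ∨ t + 4 * C.n = l) : C.P l = C.P t := by
  rcases h with rfl | rfl | rfl
  · rfl
  · exact C.per t
  · rw [show t + 4 * C.n = t + 2 * C.n + 2 * C.n by omega, C.per, C.per]

/-- The mirror image. -/
theorem All.symm {d t : ℕ} (h : C.All d) (hd : d < 2 * C.n) (hdt : d + t = 2 * C.n) : C.All t := by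
  intro c
  obtain ⟨h1, m1⟩ := h (-c)
  have hgt : C.g ^ t ∈ H := pow_mem C.gH t
  have hPd : (C.g ^ t).1 (C.P d) = C.P 0 := by
    rw [gpowP]; exact P_wrap (Or.inr (Or.inl (by omega)))
  have hP0 : (C.g ^ t).1 (C.P 0) = C.P t := by rw [gpowP, Nat.zero_add]
  have hdn := h.ne hd
  have hz : polarBilin Q (C.P 0) (c • C.P t) = 0 := by
    rcases Nat.lt_or_ge t (2 * C.n) with ht | ht
    · rw [map_smul, polP0 ht (by omega), smul_zero]
    · rw [map_smul, ← P_wrap (C := C) (t := 0) (l := t) (Or.inr (Or.inl (by omega))) |>.symm,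
        quad_polar_self, C.qP, mul_zero, smul_zero]
  refine ⟨hz, ?_⟩
  have hB : polarBilin Q (C.P d) (c • C.P 0) = 0 := by
    rw [map_smul, quad_polar_comm, polP0 hd hdn, smul_zero]
  have e1 : eich Q (C.P 0) ((-c) • C.P d) (C.qP 0) h1 = eich Q (C.P d) (c • C.P 0) (C.qP d) hB := by
    refine eich_congr Q _ _ _ _ fun y => ?_
    rw [eichLin_apply, eichLin_apply, quad_smul, quad_smul, C.qP, C.qP, map_smul, map_smul]
    simp only [smul_eq_mul]
    module
  rw [e1] at m1
  have := mul_mem (mul_mem hgt m1) (inv_mem hgt)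
  rw [eich_conj] at this
  exact mem_of_eich_eq this hPd (by rw [map_smul, hP0])

/-- The chain step `t ≡ l + n + d`. -/
theorem All.step {l d t : ℕ} (hL : C.All l) (hD : C.All d) (hl : l < 2 * C.n) (hl0 : l ≠ 0)
    (hd : d < 2 * C.n) (ht : t < 2 * C.n)
    (hcong : t = l + C.n + d ∨ t + 2 * C.n = l + C.n + d ∨ t + 4 * C.n = l + C.n + d)
    (htn : t ≠ C.n) (hlt : t ≠ l + C.n) (hlt' : t + C.n ≠ l) : C.All t := by
  intro c
  have hln := hL.ne hl
  let j := if l < C.n then l + C.n else l - C.n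
  have hj : j < 2 * C.n := by simp only [j]; split <;> omega
  have hjn : j ≠ C.n := by simp only [j]; split <;> omega
  have hy : (C.g ^ j).1 ((1 : F) • C.P d) = C.P t := by
    rw [one_smul, gpowP]
    exact P_wrap (by simp only [j]; split <;> omega)
  have h := (hL (c / C.κ)).act (hD 1) hj hjn (by rw [hy, polP0 ht htn])
  rw [hy, pol_smul_left, pol_smul_left,
    C.pol l t hl ht, if_neg (by omega), C.pol l j hl hj,
    if_pos (by simp only [j]; split <;> omega), quad_smul, C.qP] at h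
  have := h.sub (hL (c / C.κ))
  convert this using 1
  simp only [div_mul_cancel₀ _ C.hκ, mul_zero, zero_mul, add_zero, zero_smul, sub_zero]
  abel

/-- From a member of the complement, the `P j` it sees. -/
theorem all_of_pair [Finite F] {z w : V} (hz : C.Mem z) (hzS : z ∈ C.S) (hw : C.Mem w)
    (hwS : w ∈ C.S) {j : ℕ} (hj : j < 2 * C.n) (hj0 : j ≠ 0) (hjn : j ≠ C.n)
    (hb : polarBilin Q z ((C.g ^ j).1 w) ≠ 0) : C.All j := by
  have h := hz.act hw hj hjn (C.sP _ (gpowS j hwS) 0)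
  rw [quad_polar_comm Q z (C.P j), C.sP _ hzS j] at h
  simp only [zero_smul, mul_zero, add_zero] at h
  have h' := h.sub hz
  rw [show z - polarBilin Q z ((C.g ^ j).1 w) • C.P j - z =
      (-polarBilin Q z ((C.g ^ j).1 w)) • C.P j by module] at h'
  exact all_of_mem hj hj0 hjn (neg_ne_zero.mpr hb) h'

/-- Pushing a member of the complement along `P l`. -/
theorem All.push {l : ℕ} (hL : C.All l) (hl : l < 2 * C.n) (hl0 : l ≠ 0) {z : V} (hz : C.Mem z)
    (hzS : z ∈ C.S) {j : ℕ} (hjl : j = l + C.n ∨ j + C.n = l) (hj : j < 2 * C.n) (c : F) :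
    C.Mem (c • (C.g ^ j).1 z - (c * Q z) • C.P j) := by
  have hln := hL.ne hl
  have hjn : j ≠ C.n := by omega
  have h := (hL (c / C.κ)).act hz hj hjn (C.sP _ (gpowS j hzS) 0)
  rw [pol_smul_left, pol_smul_left, C.sP _ (gpowS j hzS) l,
    C.pol l j hl hj, if_pos (by omega)] at h
  have := h.sub (hL (c / C.κ))
  convert this using 1
  simp only [div_mul_cancel₀ _ C.hκ, mul_zero, zero_add, mul_comm (Q z) c]
  abel

/-- Once every `P j` and the complement are in, `H` contains the Eichler group. -/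
theorem eichGroup_le (hQ : (polarBilin Q).Nondegenerate) (hP : ∀ j, j < 2 * C.n → j ≠ C.n → C.All j) (hS : ∀ z ∈ C.S, C.Mem z) :
    eichGroup Q ⊤ ≤ H := by
  have hn := C.hn
  have hall : ∀ x, polarBilin Q (C.P 0) x = 0 → C.Mem x := by
    intro x hx
    obtain ⟨c, z, hz, rfl⟩ := C.span x
    have hcn : c C.n = 0 := by
      rw [map_add, C.sP z hz, add_zero, map_sum, Finset.sum_eq_single C.n] at hx
      · rw [map_smul, C.pol 0 C.n (by omega) (by omega), if_pos (by omega), smul_eq_mul] at hx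
        exact (mul_eq_zero.mp hx).resolve_right C.hκ
      · intro i hi hne
        rw [map_smul, polP0 (Finset.mem_range.mp hi) hne, smul_zero]
      · intro h; exact absurd (Finset.mem_range.mpr (by omega)) h
    refine Mem.add ?_ (hS z hz)
    refine Finset.sum_induction _ C.Mem (fun _ _ => Mem.add) mem_zero fun i hi => ?_
    rcases eq_or_ne i C.n with rfl | hne
    · rw [hcn, zero_smul]; exact mem_zero
    · exact hP i (Finset.mem_range.mp hi) hne _
  set f : V := C.κ⁻¹ • C.P C.n with hf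
  have hpol := fun i j hi hj => C.pol i j hi hj
  have h2 : HypTwo Q ⊤ (C.P 0) f (C.P 1) (C.κ⁻¹ • C.P (1 + C.n)) := by
    refine ⟨trivial, trivial, trivial, trivial, C.qP 0, ?_, C.qP 1, ?_, ?_, ?_, ?_, ?_, ?_, ?_, ?_⟩
    · rw [hf, quad_smul, C.qP, mul_zero]
    · rw [quad_smul, C.qP, mul_zero]
    · rw [hf, map_smul, hpol 0 C.n (by omega) (by omega), if_pos (by omega), smul_eq_mul,
        inv_mul_cancel₀ C.hκ]
    · rw [map_smul, hpol 1 (1 + C.n) (by omega) (by omega), if_pos (by omega), smul_eq_mul,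
        inv_mul_cancel₀ C.hκ]
    · rw [hpol 0 1 (by omega) (by omega), if_neg (by omega)]
    · rw [map_smul, hpol 0 (1 + C.n) (by omega) (by omega), if_neg (by omega), smul_zero]
    · rw [hf, map_smul, LinearMap.smul_apply, hpol C.n 1 (by omega) (by omega), if_neg (by omega),
        smul_zero]
    · rw [hf, map_smul, map_smul, LinearMap.smul_apply, hpol C.n (1 + C.n) (by omega) (by omega),
        if_neg (by omega), smul_zero, smul_zero]
    · intro z _ hz0
      by_contra hall0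
      push Not at hall0
      exact hz0 (hQ.1 z fun y => hall0 y trivial)
  refine OrthTwoGen.eichGroup_le h2 (fun x hx => ?_) (fun x hx => ?_)
  · obtain ⟨_, m⟩ := hall x hx
    exact m
  · -- the other end is the `n`-th translate
    have hgn : C.g ^ C.n ∈ H := pow_mem C.gH _
    have hPn : (C.g ^ C.n).1 (C.P 0) = C.P C.n := by rw [gpowP, Nat.zero_add]
    set x' := C.κ⁻¹ • (C.g ^ C.n).1.symm x with hx'
    have hx0 : polarBilin Q (C.P 0) x' = 0 := by
      rw [hx', map_smul, ← iso_polarBilin Q (C.g ^ C.n), hPn, LinearEquiv.apply_symm_apply]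
      rw [hf, map_smul, LinearMap.smul_apply, smul_eq_mul] at hx
      rw [(mul_eq_zero.mp hx).resolve_left (inv_ne_zero C.hκ), smul_zero]
    obtain ⟨_, m⟩ := hall x' hx0
    have := mul_mem (mul_mem hgn m) (inv_mem hgn)
    rw [eich_conj] at this
    refine (congrArg (· ∈ H) (eich_congr Q _ _ _ _ fun y => ?_)).mp this
    rw [hPn, hx', map_smul, LinearEquiv.apply_symm_apply, hf, eichLin_apply, eichLin_apply,
      quad_smul, pol_smul_right, pol_smul_right]
    module

end Cyc

end Cfsg.Agent.Lib.OrthTwoGen
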