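import Cfsg.Agent.Lib.OrthTwoGen.Cases
import Cfsg.Agent.Lib.Classical.POmegaSimple
import Cfsg.Agent.Lib.Geometry.OrthSiegel

/-!
The three families in coordinates.
-/

set_option autoImplicit false

namespace Cfsg.Agent.Lib.OrthTwoGen

open QuadraticMap (polarBilin)
open Cfsg.Agent.Lib.Geometry (quadIsometries mem_quadIsometries quad_smul quad_polar_comm
  siegelLin siegelLin_apply siegelGroup siegelSet siegel_mem_commutatorSet
  commutator_eq_siegelGroup map_commutator_of_equiv)
open Cfsg.Agent.Lib.Classical (eich eich_apply eichGroup eich_mem hyperForm hyperForm_apply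
  polarBilin_hyperForm hypThree_hyperForm hyperForm_nondegenerate finrank_hyperSpace_ge
  eichGroup_eq_commutator isometryMulEquiv centralQuotientCongr)
open Module (finrank)

attribute [-simp] QuadraticMap.polarBilin_apply_apply

variable {F : Type*} [Field F] {W : Type*} [AddCommGroup W] [Module F W]

/-- Two generators descend to `PΩ`. -/
theorem TwoGen.pOmega {V : Type*} [AddCommGroup V] [Module F V] {R : QuadraticForm F V}
    (h : TwoGen R) {ι : Type} [Fintype ι] [DecidableEq ι] (e : (ι → F) ≃ₗ[F] V) (Q : (ι → F) → F)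
    (he : ∀ v, Q v = R (e v)) :
    ∃ a b : Cfsg.POmega F Q, Subgroup.closure ({a, b} : Set (Cfsg.POmega F Q)) = ⊤ := by
  obtain ⟨A, B, hAB⟩ := h
  have hA : A ∈ commutator (quadIsometries R) := hAB ▸ Subgroup.subset_closure (Set.mem_insert _ _)
  have hB : B ∈ commutator (quadIsometries R) :=
    hAB ▸ Subgroup.subset_closure (Set.mem_insert_of_mem _ rfl)
  have htop : Subgroup.closure ({⟨A, hA⟩, ⟨B, hB⟩} : Set (commutator (quadIsometries R))) = ⊤ := by
    refine Subgroup.map_injective (Subgroup.subtype_injective _) ?_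
    rw [MonoidHom.map_closure, Set.image_pair, ← MonoidHom.range_eq_map, Subgroup.range_subtype]
    exact hAB
  let φ : commutator (quadIsometries R) ≃* Cfsg.Omega F Q :=
    ((isometryMulEquiv e Q R he).subgroupMap _).trans
      (MulEquiv.subgroupCongr (map_commutator_of_equiv (isometryMulEquiv e Q R he)))
  let π : commutator (quadIsometries R) →* Cfsg.POmega F Q :=
    (QuotientGroup.mk' (Subgroup.center (Cfsg.Omega F Q))).comp φ.toMonoidHom
  refine ⟨π ⟨A, hA⟩, π ⟨B, hB⟩, ?_⟩
  rw [← Set.image_pair, ← MonoidHom.map_closure, htop]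
  exact Subgroup.map_top_of_surjective _ ((QuotientGroup.mk'_surjective _).comp φ.surjective)

/-- The standard first vectors of the pairs. -/
def stdE (m : ℕ) (i : ℕ) : (Fin m → F) × (Fin m → F) × W :=
  if h : i < m then (Pi.single ⟨i, h⟩ 1, 0, 0) else 0

/-- The standard second vectors of the pairs. -/
def stdF (m : ℕ) (i : ℕ) : (Fin m → F) × (Fin m → F) × W :=
  if h : i < m then (0, Pi.single ⟨i, h⟩ 1, 0) else 0

theorem frame_std (m : ℕ) (Q₀ : QuadraticForm F W) :
    Frame (hyperForm m Q₀) m (stdE m) (stdF m) := by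
  classical
  constructor
  · intro i hi; simp [stdE, hi, hyperForm_apply, Pi.single_apply]
  · intro i hi; simp [stdF, hi, hyperForm_apply, Pi.single_apply]
  · intro i hi j hj; simp [stdE, hi, hj, polarBilin_hyperForm]
  · intro i hi j hj; simp [stdF, hi, hj, polarBilin_hyperForm]
  · intro i hi j hj
    simp [stdE, stdF, hi, hj, polarBilin_hyperForm, Pi.single_apply, eq_comm]

theorem perp_std (m : ℕ) (Q₀ : QuadraticForm F W) {k : ℕ} (hk : k ≤ m)
    (y : (Fin m → F) × (Fin m → F) × W) :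
    y ∈ perpFrame (hyperForm m Q₀) k (stdE m) (stdF m) ↔
      ∀ i : Fin m, (i : ℕ) < k → y.1 i = 0 ∧ y.2.1 i = 0 := by
  classical
  constructor
  · intro h i hi
    have := h i hi
    simp [stdE, stdF, i.isLt, polarBilin_hyperForm, Pi.single_apply, quad_polar_comm] at this
    exact ⟨this.2, this.1⟩
  · intro h i hi
    have := h ⟨i, by omega⟩ hi
    simp [stdE, stdF, show i < m by omega, polarBilin_hyperForm, Pi.single_apply, this.1, this.2]

variable [Fintype F]

theorem pOmega_plus (m : ℕ) (hm : 4 ≤ m) :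
    ∃ a b : Cfsg.POmega F (Cfsg.quadFormPlus m F),
      Subgroup.closure ({a, b} : Set (Cfsg.POmega F (Cfsg.quadFormPlus m F))) = ⊤ := by
  classical
  refine TwoGen.pOmega ?_ (Classical.plusEquiv m F) _ (Classical.quadFormPlus_eq_hyper m)
  set Q₀ : QuadraticForm F (Fin 0 → F) := 0
  have hQ := hyperForm_nondegenerate m Q₀ Classical.zero_nondegenerate
  obtain ⟨_, _, _, _, _, _, h3⟩ := hypThree_hyperForm m (by omega) Q₀ hQ
  have hrk := finrank_hyperSpace_ge (F := F) (W := Fin 0 → F) m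
  have hE := eichGroup_eq_commutator h3 hQ (Or.inr (by omega))
  obtain ⟨n, rfl⟩ : ∃ n, m = n + 1 := ⟨m - 1, by omega⟩
  refine twoGen_plus hQ (fun u x hu hx _ => hE ▸ eich_mem _ hu hx trivial trivial) hE.ge
    (n := n) (by omega) (frame_std (n + 1) Q₀) fun y hy => ?_
  rw [perp_std _ _ (by omega)] at hy
  refine ⟨y.1 ⟨n, by omega⟩, y.2.1 ⟨n, by omega⟩, ?_⟩
  have key : ∀ i : Fin (n + 1), i ≠ ⟨n, by omega⟩ → (i : ℕ) < n := fun i hi => by
    have := i.isLt
    have : (i : ℕ) ≠ n := fun h => hi (Fin.ext h)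
    omega
  refine Prod.ext (funext fun i => ?_) (Prod.ext (funext fun i => ?_) (Subsingleton.elim _ _)) <;>
  · rcases eq_or_ne i ⟨n, by omega⟩ with rfl | hi
    · simp [stdE, stdF]
    · simp [stdE, stdF, Pi.single_apply, hi, (hy i (key i hi)).1, (hy i (key i hi)).2]

theorem pOmega_minus (m : ℕ) (hm : 4 ≤ m) (a b : F)
    (hab : ∀ z₁ z₂ : F, z₁ ^ 2 + a * z₁ * z₂ + b * z₂ ^ 2 = 0 → z₁ = 0 ∧ z₂ = 0) :
    ∃ g h : Cfsg.POmega F (Cfsg.quadFormMinus (m - 1) F a b),
      Subgroup.closure ({g, h} : Set (Cfsg.POmega F (Cfsg.quadFormMinus (m - 1) F a b))) = ⊤ := by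
  classical
  obtain ⟨n, rfl⟩ : ∃ n, m = n + 1 := ⟨m - 1, by omega⟩
  show ∃ g h : Cfsg.POmega F (Cfsg.quadFormMinus n F a b),
    Subgroup.closure ({g, h} : Set (Cfsg.POmega F (Cfsg.quadFormMinus n F a b))) = ⊤
  refine TwoGen.pOmega ?_ (Classical.minusEquiv n F) _ (Classical.quadFormMinus_eq_hyper n a b)
  set Q₀ := Classical.binaryForm a b with hQ₀
  have hQ := hyperForm_nondegenerate n Q₀ (Classical.binaryForm_nondegenerate a b hab)
  obtain ⟨_, _, _, _, _, _, h3⟩ := hypThree_hyperForm n (by omega) Q₀ hQ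
  have hrk := finrank_hyperSpace_ge (F := F) (W := F × F) n
  have hE := eichGroup_eq_commutator h3 hQ (Or.inr (by omega))
  refine twoGen_minus hQ (fun u x hu hx _ => hE ▸ eich_mem _ hu hx trivial trivial) hE.ge
    (n := n) (by omega) (frame_std n Q₀) hab (z := (0, 0, (1, 0))) (w := (0, 0, (0, 1))) ?_ ?_ ?_ ?_ ?_
    (fun y hy => ?_) (fun u x hu hx => hE ▸ eich_mem _ hu hx trivial trivial)
  · rw [perp_std _ _ le_rfl]; simp
  · rw [perp_std _ _ le_rfl]; simp
  · simp [hyperForm_apply, hQ₀, Classical.binaryForm_apply]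
  · simp [hyperForm_apply, hQ₀, Classical.binaryForm_apply]
  · rw [polarBilin_hyperForm]
    simp [hQ₀, QuadraticMap.polarBilin_apply_apply, QuadraticMap.polar,
      Classical.binaryForm_apply]
    ring
  rw [perp_std _ _ le_rfl] at hy
  refine ⟨y.2.2.1, y.2.2.2, Prod.ext (funext fun i => ?_) (Prod.ext (funext fun i => ?_) ?_)⟩
  · simp [(hy i i.isLt).1]
  · simp [(hy i i.isLt).2]
  · simp [Prod.ext_iff]

theorem pOmega_odd (hodd : Odd (Fintype.card F)) (m : ℕ) (hm : 2 ≤ m) :
    ∃ a b : Cfsg.POmega F (Cfsg.quadFormOdd m F),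
      Subgroup.closure ({a, b} : Set (Cfsg.POmega F (Cfsg.quadFormOdd m F))) = ⊤ := by
  classical
  refine TwoGen.pOmega ?_ (Classical.oddEquiv m F) _ (Classical.quadFormOdd_eq_hyper m)
  have h2 : (2 : F) ≠ 0 := fun h =>
    (Nat.not_even_iff_odd.mpr hodd) ((Classical.two_eq_zero_iff_even rfl).mp h)
  set Q₀ : QuadraticForm F F := QuadraticMap.sq with hQ₀
  have hQ := hyperForm_nondegenerate m Q₀ (Classical.sq_nondegenerate h2)
  set R := hyperForm m Q₀
  have hrk : 5 ≤ finrank F ((Fin m → F) × (Fin m → F) × F) := by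
    simp [Module.finrank_prod]; omega
  have hlong : ∀ (u x : _) (hu : R u = 0) (hx : polarBilin R u x = 0), R x = 0 →
      eich R u x hu hx ∈ commutator (quadIsometries R) := by
    intro u x hu hx hqx
    rw [commutator_eq_closure]
    refine Subgroup.subset_closure (siegel_mem_commutatorSet R hQ h2 _
      ⟨u, x, 1, hu, hqx, hx, LinearMap.ext fun y => ?_⟩)
    show (eich R u x hu hx).1 y = _
    rw [eich_apply, siegelLin_apply, hqx, quad_polar_comm R y u, quad_polar_comm R y x]
    simp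
  have hE : commutator (quadIsometries R) ≤ eichGroup R ⊤ := by
    rw [commutator_eq_siegelGroup R hQ h2 hrk]
    refine (Subgroup.closure_le _).mpr ?_
    rintro g ⟨u, v, c, hu, hv, huv, hg⟩
    refine Subgroup.subset_closure ⟨u, c • v, hu, by rw [map_smul, huv, smul_zero], trivial, trivial,
      Subtype.ext (LinearEquiv.ext fun y => ?_)⟩
    rw [eich_apply]
    refine (LinearMap.congr_fun hg y).trans ?_
    rw [siegelLin_apply, quad_smul, hv, quad_polar_comm R y u, quad_polar_comm R y (c • v),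
      pol_smul_left]
    module
  refine twoGen_odd hQ hlong hE h2 hm (frame_std m Q₀) (z := (0, 0, 1)) ?_ ?_ (fun y hy => ?_)
  · rw [perp_std _ _ le_rfl]; simp
  · simp [R, hyperForm_apply, hQ₀]
  rw [perp_std _ _ le_rfl] at hy
  refine ⟨y.2.2, Prod.ext (funext fun i => ?_) (Prod.ext (funext fun i => ?_) ?_)⟩
  · simp [(hy i i.isLt).1]
  · simp [(hy i i.isLt).2]
  · simp

end Cfsg.Agent.Lib.OrthTwoGen
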