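import Cfsg.Agent.Lib.Classical.Eichler

/-!
A subgroup with both root groups of a hyperbolic pair is transitive on singular vectors, hence
contains every Eichler transformation.
-/

set_option autoImplicit false

namespace Cfsg.Agent.Lib.OrthTwoGen

open QuadraticMap (polarBilin)
open Cfsg.Agent.Lib.Geometry (quadIsometries mem_quadIsometries quad_add quad_smul quad_polar_self
  quad_polar_comm quad_polar_map)
open Cfsg.Agent.Lib.Classical (eich eich_apply eich_conj eich_congr eichGroup HypTwo iso_polarBilin)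

attribute [-simp] QuadraticMap.polarBilin_apply_apply

variable {F V : Type*} [Field F] [AddCommGroup V] [Module F V] {Q : QuadraticForm F V}
variable {U : Submodule F V} {e f e₂ f₂ : V} {H : Subgroup (quadIsometries Q)}

theorem exists_clear (h : HypTwo Q U e f e₂ f₂)
    (hHf : ∀ x (hx : polarBilin Q f x = 0), eich Q f x h.qf hx ∈ H) {v : V} (hv : v ∈ U)
    (ha : polarBilin Q v f ≠ 0) :
    ∃ g ∈ H, g.1 v = polarBilin Q v f • e + (Q v / polarBilin Q v f) • f := by
  set a := polarBilin Q v f with hadef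
  set b := polarBilin Q v e with hbdef
  set z := v - a • e - b • f with hzdef
  have hfe : polarBilin Q f e = 1 := by rw [quad_polar_comm, h.ef]
  have hff : polarBilin Q f f = 0 := by rw [quad_polar_self, h.qf, mul_zero]
  have hee : polarBilin Q e e = 0 := by rw [quad_polar_self, h.qe, mul_zero]
  have hzf : polarBilin Q z f = 0 := by
    simp [hzdef, h.ef, hff, hadef]
  have hze : polarBilin Q z e = 0 := by
    simp [hzdef, hfe, hee, hbdef]
  have hx : polarBilin Q f (-a⁻¹ • z) = 0 := by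
    rw [map_smul, quad_polar_comm, hzf, smul_zero]
  have hzU : z ∈ U := U.sub_mem (U.sub_mem hv (U.smul_mem _ h.he)) (U.smul_mem _ h.hf)
  set g := eich Q f (-a⁻¹ • z) h.qf hx with hg
  refine ⟨g, hHf _ hx, ?_⟩
  obtain ⟨β, hβ⟩ : ∃ β, g.1 v = a • e + β • f := by
    refine ⟨b - (polarBilin Q v (-a⁻¹ • z) + Q (-a⁻¹ • z) * a), ?_⟩
    rw [hg, eich_apply, ← hadef, smul_smul, mul_neg, mul_inv_cancel₀ ha, sub_smul b,
      show v = a • e + b • f + z by rw [hzdef]; abel]
    module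
  have hq := mem_quadIsometries.mp g.2 v
  rw [hβ, quad_add, quad_smul, quad_smul, h.qe, h.qf, map_smul, map_smul, LinearMap.smul_apply,
    h.ef] at hq
  simp only [smul_eq_mul, mul_zero, zero_add, mul_one] at hq
  rw [hβ, ← hq]
  congr 2
  field_simp

theorem exists_normalize (h : HypTwo Q U e f e₂ f₂)
    (hHe : ∀ x (hx : polarBilin Q e x = 0), eich Q e x h.qe hx ∈ H)
    (hHf : ∀ x (hx : polarBilin Q f x = 0), eich Q f x h.qf hx ∈ H) {v : V} (hv : v ∈ U)
    (ha : polarBilin Q v f ≠ 0) : ∃ g ∈ H, g.1 v = e + Q v • f := by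
  obtain ⟨g₁, hg₁, h1⟩ := exists_clear h hHf hv ha
  set a := polarBilin Q v f
  set c := Q v
  have hfe : polarBilin Q f e = 1 := by rw [quad_polar_comm, h.ef]
  have hff : polarBilin Q f f = 0 := by rw [quad_polar_self, h.qf, mul_zero]
  have hee : polarBilin Q e e = 0 := by rw [quad_polar_self, h.qe, mul_zero]
  have h22 : polarBilin Q e₂ e₂ = 0 := by rw [quad_polar_self, h.qe₂, mul_zero]
  -- add a multiple of `e₂`
  set g₂ := eich Q f e₂ h.qf h.fe₂ with hg₂
  have h2 : g₂.1 (a • e + (c / a) • f) = a • e + (c / a) • f + a • e₂ := by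
    rw [hg₂, eich_apply]
    simp [h.ef, hff, h.ee₂, h.fe₂, h.qe₂]
  -- change the coefficient of `e`
  set t := (a - 1) / a
  have hx : polarBilin Q e (t • f₂) = 0 := by rw [map_smul, h.ef', smul_zero]
  set g₃ := eich Q e (t • f₂) h.qe hx with hg₃
  have h3 : polarBilin Q (g₃.1 (a • e + (c / a) • f + a • e₂)) f = 1 := by
    rw [hg₃, eich_apply]
    simp [hfe, hee, h.ef, hff, h.ef', h.ff₂, h.ef₂, h.qf₂, quad_smul, quad_polar_comm Q e₂ e,
      quad_polar_comm Q e₂ f, quad_polar_comm Q f₂ f, h.ee₂, h.fe₂, t]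
    field_simp
    ring
  set v' := g₃.1 (g₂.1 (g₁.1 v))
  have hgE : g₃ * g₂ * g₁ ∈ H := mul_mem (mul_mem
    (hHe _ hx) (hHf _ h.fe₂)) hg₁
  have hv'f : polarBilin Q v' f = 1 := by rw [show v' = g₃.1 (g₂.1 (g₁.1 v)) from rfl, h1, h2, h3]
  have hv'U : v' ∈ U := by
    have hfixU : ∀ (u x : V) (hu : Q u = 0) (hx : polarBilin Q u x = 0), u ∈ U → x ∈ U →
        ∀ y ∈ U, (eich Q u x hu hx).1 y ∈ U := fun u x hu hx huU hxU y hy => by
      rw [eich_apply]
      exact U.sub_mem (U.add_mem hy (U.smul_mem _ hxU)) (U.smul_mem _ huU)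
    refine hfixU _ _ _ _ h.he (U.smul_mem _ h.hf₂) _ (hfixU _ _ _ _ h.hf h.he₂ _ ?_)
    rw [h1]
    exact U.add_mem (U.smul_mem _ h.he) (U.smul_mem _ h.hf)
  obtain ⟨g₄, hg₄, h4⟩ := exists_clear h hHf hv'U (by rw [hv'f]; exact one_ne_zero)
  refine ⟨g₄ * (g₃ * g₂ * g₁), mul_mem hg₄ hgE, ?_⟩
  show g₄.1 v' = _
  have hq : Q v' = c := by
    rw [show v' = g₃.1 (g₂.1 (g₁.1 v)) from rfl, mem_quadIsometries.mp g₃.2,
      mem_quadIsometries.mp g₂.2, mem_quadIsometries.mp g₁.2]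
  rw [h4, hv'f, hq, one_smul, div_one]

/-- The Eichler group is transitive on non-zero vectors of given value. -/
theorem exists_eich_apply (h : HypTwo Q U e f e₂ f₂)
    (hHe : ∀ x (hx : polarBilin Q e x = 0), eich Q e x h.qe hx ∈ H)
    (hHf : ∀ x (hx : polarBilin Q f x = 0), eich Q f x h.qf hx ∈ H) {v : V} (hv : v ∈ U) (hv0 : v ≠ 0) :
    ∃ g ∈ H, g.1 v = e + Q v • f := by
  by_cases ha : polarBilin Q v f = 0
  swap
  · exact exists_normalize h hHe hHf hv ha
  -- reach a vector pairing non-trivially with `f`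
  suffices H : ∃ g ∈ H, polarBilin Q (g.1 v) f ≠ 0 ∧ g.1 v ∈ U by
    obtain ⟨g, hg, hgf, hgU⟩ := H
    obtain ⟨g', hg', h'⟩ := exists_normalize h hHe hHf hgU hgf
    exact ⟨g' * g, mul_mem hg' hg, by
      show g'.1 (g.1 v) = _
      rw [h', mem_quadIsometries.mp g.2]⟩
  have hfe : polarBilin Q f e = 1 := by rw [quad_polar_comm, h.ef]
  have hff : polarBilin Q f f = 0 := by rw [quad_polar_self, h.qf, mul_zero]
  have hee : polarBilin Q e e = 0 := by rw [quad_polar_self, h.qe, mul_zero]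
  have hmemU : ∀ (x : V) (hx : polarBilin Q e x = 0), x ∈ U → ∀ y ∈ U,
      (eich Q e x h.qe hx).1 y ∈ U := fun x hx hxU y hy => by
    rw [eich_apply]
    exact U.sub_mem (U.add_mem hy (U.smul_mem _ hxU)) (U.smul_mem _ h.he)
  by_cases hb : polarBilin Q v e = 0
  · obtain ⟨y, hyU, hy⟩ := h.sep v hv hv0
    set x := y - polarBilin Q y f • e - polarBilin Q y e • f with hxdef
    have hxU : x ∈ U := U.sub_mem (U.sub_mem hyU (U.smul_mem _ h.he)) (U.smul_mem _ h.hf)
    have hx : polarBilin Q e x = 0 := by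
      simp [hxdef, hee, h.ef, quad_polar_comm Q e y]
    refine ⟨eich Q e x h.qe hx, hHe _ hx, ?_, hmemU x hx hxU v hv⟩
    rw [eich_apply, hb]
    have hvx : polarBilin Q v x = polarBilin Q v y := by simp [hxdef, ha, hb]
    simp [ha, hvx, h.ef, hy]
  · obtain ⟨g₁, hg₁, h1⟩ := exists_clear h.swap hHe hv hb
    set b := polarBilin Q v e
    have hg₁U : g₁.1 v ∈ U := by
      rw [h1]; exact U.add_mem (U.smul_mem _ h.hf) (U.smul_mem _ h.he)
    by_cases hc : Q v = 0
    · have hx : polarBilin Q e (e₂ + f₂) = 0 := by rw [map_add, h.ee₂, h.ef', add_zero]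
      refine ⟨eich Q e (e₂ + f₂) h.qe hx * g₁,
        mul_mem (hHe _ hx) hg₁, ?_,
        hmemU _ hx (U.add_mem h.he₂ h.hf₂) _ hg₁U⟩
      show polarBilin Q ((eich Q e (e₂ + f₂) h.qe hx).1 (g₁.1 v)) f ≠ 0
      rw [h1, hc, zero_div, zero_smul, add_zero, eich_apply]
      simp [hfe, hff, h.fe₂, h.ff₂, h.ef, quad_add, h.qe₂, h.qf₂, h.ef₂, quad_polar_comm Q e₂ f,
        quad_polar_comm Q f₂ f]
      exact hb
    · refine ⟨g₁, hg₁, ?_, hg₁U⟩
      rw [h1]
      simp [hff, h.ef, hc, hb]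

theorem eichGroup_le (h : HypTwo Q ⊤ e f e₂ f₂)
    (hHe : ∀ x (hx : polarBilin Q e x = 0), eich Q e x h.qe hx ∈ H)
    (hHf : ∀ x (hx : polarBilin Q f x = 0), eich Q f x h.qf hx ∈ H) : eichGroup Q ⊤ ≤ H := by
  refine (Subgroup.closure_le _).mpr ?_
  rintro _ ⟨u, x, hu, hx, -, -, rfl⟩
  rcases eq_or_ne u 0 with rfl | hu0
  · have : eich Q (0 : V) x hu hx = 1 :=
      Subtype.ext (LinearEquiv.ext fun y => by simp [eich_apply])
    rw [this]; exact one_mem _
  obtain ⟨g, hg, hgu⟩ := exists_eich_apply h hHe hHf (v := u) trivial hu0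
  rw [hu, zero_smul, add_zero] at hgu
  have hgx : polarBilin Q e (g.1 x) = 0 := by rw [← hgu, iso_polarBilin, hx]
  have hc : g * eich Q u x hu hx * g⁻¹ = eich Q e (g.1 x) h.qe hgx := by
    rw [eich_conj]
    exact eich_congr Q _ _ _ _ fun t => by rw [hgu]
  have hm := hHe _ hgx
  rw [← hc] at hm
  simpa [mul_assoc] using mul_mem (mul_mem (inv_mem hg) hm) hg

end Cfsg.Agent.Lib.OrthTwoGen
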